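import Cfsg.Agent.CGT.Act
import Cfsg.Prelude.Def_Spor_Mathieu

set_option autoImplicit false
set_option maxRecDepth 100000

/-! The Golay code in terms of bit masks. -/

namespace Cfsg.Agent.Gol

open Cfsg Cfsg.Agent.CGT Equiv
open scoped Pointwise symmDiff

/-- The index of a point. -/
def ix : GolayPt → ℕ
  | none => 0
  | some x => x.val + 1

/-- The point with a given index. -/
def pt (i : ℕ) : GolayPt := if i = 0 then none else some ((i - 1 : ℕ) : ZMod 23)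

theorem pt_ix : ∀ p, pt (ix p) = p := by decide +kernel
theorem ix_pt : ∀ i < 24, ix (pt i) = i := by decide +kernel
theorem ix_lt : ∀ p, ix p < 24 := by decide +kernel
theorem ix_inj {p q : GolayPt} (h : ix p = ix q) : p = q := by rw [← pt_ix p, h, pt_ix]
theorem pt_zero : pt 0 = none := rfl
theorem pt_one : pt 1 = some 0 := by decide
theorem ix_none : ix none = 0 := rfl
theorem ix_zero : ix (some 0) = 1 := rfl

/-- The points and the numbers below 24. -/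
def ixE : GolayPt ≃ Fin 24 where
  toFun p := ⟨ix p, ix_lt p⟩
  invFun i := pt i
  left_inv := pt_ix
  right_inv i := Fin.ext (ix_pt i i.2)

theorem sum_pt {M : Type*} [AddCommMonoid M] (f : GolayPt → M) :
    ∑ p, f p = ∑ i ∈ Finset.range 24, f (pt i) := by
  rw [← Fin.sum_univ_eq_sum_range (fun i => f (pt i)), ← Equiv.sum_comp ixE.symm]; rfl

theorem card_pt : Fintype.card GolayPt = 24 := by decide +kernel

/-- The set of points of a mask. -/
def fs (m : ℕ) : Finset GolayPt := Finset.univ.filter fun p => m.testBit (ix p) = true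

@[simp] theorem mem_fs {m : ℕ} {p : GolayPt} : p ∈ fs m ↔ m.testBit (ix p) = true := by simp [fs]

/-- The mask of a set of points. -/
def mk (S : Finset GolayPt) : ℕ := Nat.ofBits fun i : Fin 24 => decide (pt i ∈ S)

theorem mk_lt (S : Finset GolayPt) : mk S < 2 ^ 24 := Nat.ofBits_lt_two_pow _

theorem testBit_mk (S : Finset GolayPt) (p : GolayPt) : (mk S).testBit (ix p) = decide (p ∈ S) := by
  rw [mk, Nat.testBit_ofBits_lt _ _ (ix_lt p)]
  simp [pt_ix]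

theorem fs_mk (S : Finset GolayPt) : fs (mk S) = S := by ext p; simp [testBit_mk]

theorem testBit_of_le {m : ℕ} (h : m < 2 ^ 24) {i : ℕ} (hi : 24 ≤ i) : m.testBit i = false :=
  Nat.testBit_lt_two_pow (h.trans_le (Nat.pow_le_pow_right (by norm_num) hi))

theorem fs_inj {m n : ℕ} (hm : m < 2 ^ 24) (hn : n < 2 ^ 24) (h : fs m = fs n) : m = n := by
  apply Nat.eq_of_testBit_eq
  intro i
  by_cases hi : i < 24
  · have : pt i ∈ fs m ↔ pt i ∈ fs n := by rw [h]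
    rw [mem_fs, mem_fs, ix_pt i hi] at this
    exact Bool.eq_iff_iff.2 this
  · rw [testBit_of_le hm (by omega), testBit_of_le hn (by omega)]

theorem mk_fs {m : ℕ} (hm : m < 2 ^ 24) : mk (fs m) = m := fs_inj (mk_lt _) hm (fs_mk _)

theorem fs_land (m n : ℕ) : fs (m &&& n) = fs m ∩ fs n := by ext p; simp
theorem fs_lor (m n : ℕ) : fs (m ||| n) = fs m ∪ fs n := by ext p; simp
theorem fs_xor (m n : ℕ) : fs (m ^^^ n) = fs m ∆ fs n := by
  ext p
  simp only [mem_fs, Nat.testBit_xor, Finset.mem_symmDiff]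
  cases m.testBit (ix p) <;> cases n.testBit (ix p) <;> simp
theorem fs_zero : fs 0 = ∅ := by ext p; simp
theorem fs_all : fs 16777215 = Finset.univ := by decide +kernel
theorem fs_two_pow {i : ℕ} (hi : i < 24) : fs (2 ^ i) = {pt i} := by
  ext p
  simp only [mem_fs, Nat.testBit_two_pow, decide_eq_true_eq, Finset.mem_singleton]
  exact ⟨fun h => by rw [h, pt_ix], fun h => by rw [h, ix_pt i hi]⟩

theorem card_fs {m : ℕ} (hm : m < 2 ^ 24) : (fs m).card = popc 2 m := by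
  rw [popc_eq]
  refine Finset.card_bij (fun p _ => ix p) (fun p hp => ?_) (fun p _ q _ h => ix_inj h)
    (fun i hi => ?_)
  · have := ix_lt p
    simp only [Finset.mem_filter, Finset.mem_range]
    exact ⟨by omega, mem_fs.1 hp⟩
  · have h1 := (Finset.mem_filter.1 hi).2
    have h2 : i < 24 := by
      by_contra h
      rw [testBit_of_le hm (by omega)] at h1
      exact absurd h1 (by simp)
    exact ⟨pt i, by rwa [mem_fs, ix_pt i h2], ix_pt i h2⟩

/-- The word of a mask. -/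
def wd (m : ℕ) : GolayPt → ZMod 2 := fun p => bt (ZMod 2) (m.testBit (ix p))

theorem support_wd (m : ℕ) : support₂ (wd m) = fs m := by
  ext p
  rw [mem_fs, support₂, Finset.mem_filter, wd]
  cases m.testBit (ix p) <;> simp [bt]

theorem wd_mk_support (w : GolayPt → ZMod 2) : wd (mk (support₂ w)) = w := by
  funext p
  have : ∀ a : ZMod 2, bt (ZMod 2) (decide (a ≠ 0)) = a := by decide
  simp only [wd, testBit_mk, support₂, Finset.mem_filter, Finset.mem_univ, true_and, this]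

theorem wd_xorSel (P : List ℕ) (c : ℕ) :
    wd (xorSel P c) = ∑ i ∈ Finset.range P.length, bt (ZMod 2) (c.testBit i) • wd (nth 0 P i) := by
  funext p
  simp only [wd, bt_xorSel, Finset.sum_apply, Pi.smul_apply, smul_eq_mul]

/-- A basis in systematic form. -/
def bas : List ℕ := [13062145, 4845570, 9691140, 7221256, 14442512, 15806496, 11243584, 2019456, 4038912, 8077824, 16155648, 10811392]

/-- The masks of the generating words. -/
def qmL : List ℕ := [681662, 1363324, 2726648, 5453296, 10906592, 5035970, 10071940, 3366666, 6733332, 13466664, 10156114, 3535014, 7070028, 14140056, 11502898, 6228582, 12457164, 8137114, 16274228, 15771242, 14765270, 12753326, 8729438, 16777215]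

/-- The basis in terms of the generating words. -/
def coefL : List ℕ := [8390181, 140, 280, 700, 1400, 159, 434, 1000, 2000, 1347, 101, 70]

/-- The code word with given information bits. -/
noncomputable def cw (c : ℕ) : ℕ := xorSel bas c

/-- The membership test. -/
noncomputable def inC (m : ℕ) : Bool := Nat.beq (cw (Nat.land m 4095)) m

theorem qr_eq : ∀ t : ZMod 23, qrWord t = wd (nth 0 qmL t.val) := by decide +kernel

theorem one_eq : (1 : GolayPt → ZMod 2) = wd (nth 0 qmL 23) := by decide +kernel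

theorem qm_mem {i : ℕ} (hi : i < 24) : wd (nth 0 qmL i) ∈ golayCode := by
  apply Submodule.subset_span
  rcases Nat.lt_succ_iff_lt_or_eq.1 hi with h | rfl
  · refine Or.inl ⟨(i : ZMod 23), ?_⟩
    rw [qr_eq, ZMod.val_cast_of_lt h]
  · exact Or.inr one_eq.symm

theorem bas_eq : allLt 12 (fun j => Nat.beq (nth 0 bas j) (xorSel qmL (nth 0 coefL j))) = true := by
  decide +kernel

theorem bas_mem {j : ℕ} (hj : j < 12) : wd (nth 0 bas j) ∈ golayCode := by
  rw [Nat.eq_of_beq_eq_true (allLt_iff.1 bas_eq j hj), wd_xorSel]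
  exact Submodule.sum_mem _ fun i hi => Submodule.smul_mem _ _ (qm_mem (Finset.mem_range.1 hi))

theorem cw_mem (c : ℕ) : wd (cw c) ∈ golayCode := by
  rw [cw, wd_xorSel]
  exact Submodule.sum_mem _ fun i hi => Submodule.smul_mem _ _ (bas_mem (Finset.mem_range.1 hi))

theorem qm_inC : allLt 24 (fun i => inC (nth 0 qmL i)) = true := by decide +kernel

theorem wd_cw_land (m : ℕ) :
    wd (cw (m &&& 4095)) = ∑ i ∈ Finset.range 12, wd m (pt i) • wd (nth 0 bas i) := by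
  rw [cw, wd_xorSel]
  refine Finset.sum_congr rfl fun i hi => ?_
  have h1 := Finset.mem_range.1 hi
  rw [wd.eq_1 m, ix_pt i (by omega), Nat.testBit_and, show (4095 : ℕ) = 2 ^ 12 - 1 by norm_num,
    Nat.testBit_two_pow_sub_one]
  simp [h1]

theorem mem_sys {w : GolayPt → ZMod 2} (hw : w ∈ golayCode) :
    w = ∑ i ∈ Finset.range 12, w (pt i) • wd (nth 0 bas i) := by
  have key : ∀ i < 24, wd (nth 0 qmL i) =
      ∑ j ∈ Finset.range 12, wd (nth 0 qmL i) (pt j) • wd (nth 0 bas j) := fun i hi => by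
    rw [← wd_cw_land]
    exact congrArg wd (Nat.eq_of_beq_eq_true (allLt_iff.1 qm_inC i hi)).symm
  induction hw using Submodule.span_induction with
  | mem x hx =>
    rcases hx with ⟨t, rfl⟩ | rfl
    · rw [qr_eq]; exact key _ (by have := ZMod.val_lt t; omega)
    · rw [one_eq]; exact key _ (by omega)
  | zero => simp
  | add x y _ _ hx hy =>
    simp only [Pi.add_apply, add_smul, Finset.sum_add_distrib]
    rw [← hx, ← hy]
  | smul a x _ hx =>
    simp only [Pi.smul_apply, smul_eq_mul, mul_smul, ← Finset.smul_sum]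
    rw [← hx]

/-- The octads. -/
def octL : List ℕ := [0xc75001, 0x49f002, 0x8ea003, 0x93e004, 0x54b005, 0xda1006, 0x1d4007, 0x6e3008, 0xa96009, 0x27c00a, 0xe0900b, 0x3a800d, 0xb4200e, 0xdc6010, 0x1b3011, 0x959012, 0x52c013, 0x4f8014, 0x88d015, 0x67016, 0xc12017, 0xb25018, 0x750019, 0x21b01c, 0x68401e, 0xf13020, 0x366021, 0xb8c022, 0x62d024, 0xa58025, 0x2b2026, 0x9f0028, 0x585029, 0x11a02b, 0xce02c, 0x45102e, 0x82402f, 0x2d5030, 0xea0031, 0x64a032, 0x301037, 0x436038, 0x843039, 0xa903a, 0xd0803c, 0xab9040, 0x6cc041, 0xe26042, 0x253043, 0x387044, 0x718046, 0xc5a048, 0x2f049, 0x8c504a, 0x4b004b, 0x56404c, 0x91104d, 0xb0a051, 0x3e0052, 0xe41054, 0x234055, 0x19c058, 0x50305a, 0x8a205c, 0x4805f, 0x5aa060, 0x135062, 0xd40063, 0xc94064, 0xe1065, 0x80b066, 0x349068, 0x60206d, 0x86c070, 0x419071, 0x86073, 0x152074, 0xa1007a, 0x1ed080, 0xd98081, 0x572082, 0x907083, 0x8d3084, 0x4a6085, 0xc4c086, 0x39087, 0x70e088, 0x39108a,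 0xe3008c, 0x24508d, 0xc2b090, 0x5e091, 0x8b4092, 0x4c1093, 0x515094, 0x960095, 0x18a096, 0xac8098, 0x22209b, 0x28b0a1, 0xa610a2, 0x6140a3, 0x7c00a4, 0x81d0a8, 0x4680a9, 0xc820aa, 0x1230ac, 0x3380b0, 0xa060b4, 0x1440ba, 0x900bd, 0xb540c0, 0x7210c1, 0x26a0c4, 0xa800c7, 0x1c20c9, 0x9280ca, 0x4890cc, 0x160ce, 0x6920d0, 0x20d0d2, 0x710d8, 0xc040d9, 0x4470e0, 0x8320e1, 0xd80e2, 0x10c0e5, 0x2a40e8, 0x9810f0, 0x4200f6, 0x3da100, 0x745102, 0xb30103, 0xae4104, 0x691105, 0x20e107, 0x539108, 0x94c109, 0x1a610a, 0xc0710c, 0x7210d, 0x89810e, 0xe1c110, 0x269111, 0xa83112, 0x722114, 0x48a119, 0xc6011a, 0x1511b, 0x1c111c, 0xcc9120, 0xbc121, 0x856122, 0x423123, 0x982125, 0x168126, 0xa2a128, 0x2c012b, 0x31412c, 0x10f130, 0x590132, 0x831134, 0x444135, 0x963140, 0x516141, 0x189143, 0x5d144, 0xc28145, 0x4c2146, 0xf80148, 0x22114e, 0x4a5150, 0x8d0151, 0x3a152, 0x904156, 0x246158, 0x670160, 0xa05161, 0x93168, 0x40c16a, 0x288174, 0x120179,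 0x237180, 0xe42181, 0x6a8182, 0xb09184, 0x4d4188, 0x8a1189, 0x4b18a, 0x50018f, 0x384191, 0x250196, 0x912198, 0x2c19c, 0xd241a0, 0x1511a1, 0x41a1a4, 0x851a6, 0xe21b0, 0x8081b3, 0x6011b8, 0x88e1c0, 0xc111c2, 0x641c3, 0x1b01c4, 0x2181c9, 0x5481d0, 0x31d5, 0x3021e2, 0x8401ec, 0x7b4200, 0xbc1201, 0x32b202, 0xe8a204, 0xa15206, 0x660207, 0x157208, 0xd22209, 0x5c820a, 0x86920c, 0x41c20d, 0x8320f, 0xa72210, 0x607211, 0x298213, 0x34c214, 0xc91218, 0xe4219, 0x80e21a, 0x13021e, 0x8a7220, 0x4d2221, 0xc38222, 0x4d223, 0x199224, 0x506226, 0xe44228, 0x231229, 0x561230, 0x914231, 0x2a235, 0x8c0236, 0x382238, 0xd0d240, 0x178241, 0x992242, 0x433244, 0x846245, 0xac246, 0x30424b, 0x2d024c, 0xcb250, 0x454252, 0x821253, 0x580255, 0x628258, 0x21e260, 0x681262, 0xb20264, 0x888269, 0x6226a, 0x527c, 0x659280, 0xa2c281, 0x2c6282, 0x312285, 0xba288, 0x42528a, 0x85028b, 0x98428c, 0xf00292, 0x2a1294, 0x109299, 0x44229c, 0x94a2a0, 0x1a02a3,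 0x742a4, 0xc012a5, 0x2082ae, 0x48c2b0, 0x132b2, 0xce02c0, 0x952c1, 0x40a2c3, 0x1412c6, 0xa032c8, 0x1262d0, 0x8182d4, 0x5102e8, 0x2402f1, 0x46e300, 0x81b301, 0xf1302, 0xc84303, 0xd50304, 0x125305, 0x28d308, 0x61230a, 0x9a8310, 0x142313, 0x96314, 0x409316, 0xa0031d, 0x708321, 0x243324, 0x90132a, 0x4a032c, 0x224332, 0x58338, 0x2a2341, 0xa48342, 0x834348, 0x441349, 0x10a34c, 0x311350, 0x1c4360, 0x10367, 0xc02370, 0x583380, 0x11c382, 0xc8385, 0x822386, 0x360388, 0x845390, 0x430391, 0xa903a0, 0x63a9, 0x6043c4, 0x803da, 0x293e0, 0xf68400, 0x31d401, 0x782403, 0x656404, 0xa23405, 0x2c9406, 0x98b408, 0xd1440a, 0x16140b, 0xb540c, 0xcc040d, 0x42a40e, 0x2ae410, 0x631412, 0xa44413, 0xb90414, 0x44d418, 0x838419, 0xd241a, 0x10641d, 0x7b420, 0xc0e421, 0x4e4422, 0x891423, 0x945424, 0x530425, 0x698428, 0x20742a, 0x1c8431, 0x922432, 0x483434, 0x1c436, 0x26043c, 0x5d1440, 0x9a4441, 0x14e442, 0x9a445, 0x870446, 0x405447, 0x332448,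 0xa0c44c, 0x817450, 0x462451, 0xc88452, 0x129454, 0x281459, 0xac2460, 0x228463, 0xc21468, 0x54469, 0x18046e, 0x704470, 0xe85480, 0x2f0481, 0xa1a482, 0x324486, 0x866488, 0x413489, 0x8c48b, 0x15848c, 0x343490, 0x608495, 0x5a0498, 0x80149e, 0x1964a0, 0x5094a2, 0x8a84a4, 0x424a7, 0xb004a9, 0xc504b0, 0x254b1, 0x43c4c0, 0x8494c1, 0xa34c2, 0xd024c4, 0x6404ca, 0x1104d3, 0xc44d4, 0x2114e4, 0xa4f8, 0xcb2500, 0xc7501, 0x82d502, 0x458503, 0x58c504, 0x113506, 0xa51508, 0x624509, 0x174510, 0xd01511, 0x84a514, 0xa0517, 0x30851a, 0x3a1520, 0xe00526, 0x542528, 0x952d, 0x212531, 0x884538, 0x60b540, 0x294542, 0x340545, 0xe8548, 0x80254b, 0x41055c, 0x918560, 0x26564, 0x41572, 0x12a581, 0x9c0582, 0x461584, 0x814585, 0x28258c, 0x99590, 0x406592, 0x24c5a0, 0x305aa, 0x1055c8, 0xa205d0, 0x4805e1, 0x8dc600, 0x4a9601, 0xc43602, 0x36603, 0x1e2604, 0x908607, 0x24a609, 0xaa060a, 0x70160c, 0x51a610, 0x185612, 0xc24614, 0x51615, 0x350622,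 0x284625, 0x12c628, 0x81262c, 0xa09630, 0x40063b, 0x265640, 0xe10641, 0x486648, 0x1964a, 0x202656, 0x940658, 0x103661, 0x448664, 0xb0670, 0x931680, 0x544681, 0xf684, 0x490686, 0x882691, 0x68692, 0x214698, 0x6226a0, 0xc16a8, 0x3886c0, 0x206cd, 0x8046e2, 0xb06700, 0x238704, 0x190709, 0x4470e, 0x6c0710, 0x23718, 0x415720, 0x860721, 0x8a722, 0x520742, 0x881744, 0xc751, 0x201783, 0xc08788, 0x1007b4, 0x527c0, 0xa4f800, 0x63a801, 0xed0802, 0x2a5803, 0x371804, 0xf04805, 0xcac808, 0xd9809, 0x83380a, 0x44680b, 0x59280c, 0x10d80e, 0x789810, 0x316812, 0x2c2815, 0xa28816, 0x16a818, 0x98081b, 0x85481c, 0x42181d, 0x55c820, 0x929821, 0x1c3822, 0xc62824, 0x17825, 0x488827, 0x72082a, 0xa8182c, 0x89a830, 0xc05832, 0x70833, 0x1a4834, 0x20c839, 0xf6840, 0xc83841, 0x469842, 0x81c843, 0x9c8844, 0x122847, 0x615848, 0xa60849, 0x28a84a, 0xd30850, 0x145851, 0x40e854, 0x91856, 0x390861, 0x244866, 0x906868, 0x3886c, 0x223870, 0x4c0878,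 0xba2880, 0x348883, 0x29c884, 0x603886, 0xd41888, 0x134889, 0x80a88d, 0xe088e, 0x664890, 0xa11891, 0x87898, 0x41889a, 0x4b18a0, 0x8c48a1, 0x2e8a2, 0x9108a6, 0x2528a8, 0x5028b1, 0x498b4, 0x11b8c0, 0x5848c2, 0x8258c4, 0x4508c5, 0xa88d1, 0x8428d2, 0x3008dc, 0xe088e0, 0x18eb, 0x995900, 0x5e0901, 0xd0a902, 0xab904, 0x434906, 0x841907, 0x303909, 0x64890c, 0x453910, 0x826911, 0xcc912, 0x118915, 0x2b0918, 0x686920, 0x219922, 0x65928, 0xc10929, 0xb40930, 0x293e, 0x32c940, 0xa12944, 0x15094a, 0x8494d, 0x600953, 0x809958, 0x4a961, 0x8a0962, 0x501964, 0x878980, 0x40d981, 0x92983, 0x146984, 0xa0498a, 0x121992, 0xc80994, 0x2209a5, 0x1889a8, 0x2c19c0, 0x4229c8, 0x149f0, 0x18ea01, 0x964a02, 0x511a03, 0x4c5a04, 0x8b0a05, 0x5aa06, 0xb18a08, 0x226a0c, 0x3da10, 0xc48a11, 0x4a2a12, 0x903a14, 0x241a1a, 0x2e8a20, 0xa02a23, 0x40ba28, 0x94a2a, 0x140a2d, 0x610a34, 0x742a40, 0x209a45, 0x1a1a48, 0xc00a4e, 0xa84a50, 0x12a59, 0x851a60, 0x424a61,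 0x108a72, 0xc16a80, 0x63a81, 0x889a82, 0x528a84, 0x680a89, 0x1d0a90, 0x4a97, 0x305aa0, 0x820ab8, 0x230ac2, 0x4cac8, 0x82ae4, 0xe21b00, 0x254b01, 0x380b06, 0x8c2b08, 0x28b0b, 0x504b18, 0x132b20, 0x80cb24, 0x81b31, 0x498b40, 0x7b42, 0x60b54, 0x11b8c, 0x20ab90, 0x440ba2, 0x900bc1, 0x527c00, 0x952c01, 0x1b8c02, 0xc19c04, 0x6cc05, 0x886c06, 0x3c4c08, 0x210c0f, 0x8e1c10, 0x494c11, 0xbc13, 0x540c16, 0xe02c18, 0xa34c20, 0x641c21, 0x30ac24, 0xa2c29, 0x848c2a, 0x111c38, 0xb01c42, 0x6a0c44, 0x508c49, 0x43c4c, 0x258c50, 0x24c5a, 0x8dc60, 0x412c62, 0x800c75, 0x4cac80, 0x55c82, 0xc20c83, 0x181c85, 0x229c88, 0x90cc90, 0x32c94, 0x404cac, 0x280cb2, 0x206cc1, 0x890cc8, 0x160ce0, 0xa88d01, 0x262d02, 0x1ed08, 0x481d0a, 0x920d0c, 0x205d14, 0x104d23, 0xd0d24, 0x428d30, 0xc44d40, 0x31d41, 0x182d50, 0x710d80, 0x40d99, 0x803da0, 0x8dc6, 0x293e00, 0x60ce02, 0x470e08, 0x805e09, 0x320e11, 0x88e1c, 0xd80e20, 0x21e26, 0x46e30, 0x82ae40,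 0xc0e43, 0x114e44, 0xa40e84, 0x102e8a, 0x18ea1, 0x401ed0, 0x149f00, 0x402f05, 0x810f12, 0x200f68, 0xa4f80]

/-- What is checked for every code word. -/
noncomputable def cwOK (c : ℕ) : Bool :=
  (fun m => Nat.ble m 16777215 && (Nat.beq (Nat.land m 4095) c &&
    (fun w => Nat.beq m 0 || (Nat.beq w 12 || (Nat.beq w 16 || (Nat.beq m 16777215 ||
      (Nat.beq w 8 && memL m octL))))) (popc 2 m))) (cw c)

theorem cw_all : allLt 4096 cwOK = true := by decide +kernel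

theorem octL_ok : allL octL (fun m => inC m && Nat.beq (popc 2 m) 8) = true := by decide +kernel

theorem octL_length : octL.length = 759 := by decide +kernel

theorem cw_spec {c : ℕ} (hc : c < 4096) : cw c < 2 ^ 24 ∧ cw c &&& 4095 = c ∧
    (cw c = 0 ∨ popc 2 (cw c) = 12 ∨ popc 2 (cw c) = 16 ∨ cw c = 16777215 ∨
      (popc 2 (cw c) = 8 ∧ cw c ∈ octL)) := by
  have := allLt_iff.1 cw_all c hc
  simp only [cwOK, Bool.and_eq_true, Bool.or_eq_true, Nat.beq_eq, Nat.ble_eq, land_eq] at this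
  refine ⟨by omega, this.2.1, ?_⟩
  rcases this.2.2 with h | h | h | h | h
  · exact Or.inl h
  · exact Or.inr (Or.inl h)
  · exact Or.inr (Or.inr (Or.inl h))
  · exact Or.inr (Or.inr (Or.inr (Or.inl h)))
  · exact Or.inr (Or.inr (Or.inr (Or.inr ⟨h.1, memL_sound h.2⟩)))

theorem land_lt (m : ℕ) : m &&& 4095 < 4096 := lt_of_le_of_lt Nat.and_le_right (by norm_num)

theorem inC_eq {m : ℕ} (h : inC m = true) : cw (m &&& 4095) = m := Nat.eq_of_beq_eq_true h

theorem inC_lt {m : ℕ} (h : inC m = true) : m < 2 ^ 24 := inC_eq h ▸ (cw_spec (land_lt m)).1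

theorem inC_cw {c : ℕ} (hc : c < 4096) : inC (cw c) = true := by
  rw [inC, land_eq, (cw_spec hc).2.1, Nat.beq_refl]

theorem inC_mem {m : ℕ} (h : inC m = true) : wd m ∈ golayCode := inC_eq h ▸ cw_mem _

theorem wd_inj {m n : ℕ} (hm : m < 2 ^ 24) (hn : n < 2 ^ 24) (h : wd m = wd n) : m = n :=
  fs_inj hm hn (by rw [← support_wd, h, support_wd])

theorem inC_of_mem {m : ℕ} (hm : m < 2 ^ 24) (h : wd m ∈ golayCode) : inC m = true := by
  rw [inC, Nat.beq_eq, land_eq]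
  exact wd_inj (cw_spec (land_lt m)).1 hm (by rw [wd_cw_land, ← mem_sys h])

/-- The set is the support of a code word. -/
def IsC (S : Finset GolayPt) : Prop := S ∈ supports (golayCode : Set (GolayPt → ZMod 2))

theorem isC_fs {m : ℕ} (h : inC m = true) : IsC (fs m) := ⟨wd m, inC_mem h, support_wd m⟩

theorem IsC.inC {S : Finset GolayPt} (h : IsC S) : inC (mk S) = true := by
  obtain ⟨w, hw, rfl⟩ := h
  exact inC_of_mem (mk_lt _) (by rwa [wd_mk_support])

theorem isC_iff_inC {S : Finset GolayPt} : IsC S ↔ inC (mk S) = true :=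
  ⟨IsC.inC, fun h => fs_mk S ▸ isC_fs h⟩

theorem isC_fs_iff {m : ℕ} (hm : m < 2 ^ 24) : IsC (fs m) ↔ inC m = true := by
  rw [isC_iff_inC, mk_fs hm]

theorem IsC.exists_cw {S : Finset GolayPt} (h : IsC S) : ∃ c < 4096, S = fs (cw c) :=
  ⟨_, land_lt (mk S), by rw [inC_eq h.inC, fs_mk]⟩

theorem isC_cw (c : ℕ) : IsC (fs (cw c)) := ⟨_, cw_mem c, support_wd _⟩

theorem isC_iff_wd {S : Finset GolayPt} : IsC S ↔ wd (mk S) ∈ golayCode :=
  ⟨fun h => inC_mem h.inC, fun h => ⟨_, h, by rw [support_wd, fs_mk]⟩⟩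

theorem isC_support {w : GolayPt → ZMod 2} : IsC (support₂ w) ↔ w ∈ golayCode := by
  rw [isC_iff_wd, wd_mk_support]

theorem support_add (v w : GolayPt → ZMod 2) : support₂ (v + w) = support₂ v ∆ support₂ w := by
  ext p
  have : ∀ a b : ZMod 2, a + b ≠ 0 ↔ (a ≠ 0 ∧ ¬ b ≠ 0) ∨ (b ≠ 0 ∧ ¬ a ≠ 0) := by decide
  simp only [support₂, Finset.mem_filter, Finset.mem_univ, true_and, Finset.mem_symmDiff,
    Pi.add_apply, this]

theorem IsC.symmDiff {S T : Finset GolayPt} (hS : IsC S) (hT : IsC T) : IsC (S ∆ T) := by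
  obtain ⟨v, hv, rfl⟩ := hS
  obtain ⟨w, hw, rfl⟩ := hT
  exact ⟨v + w, golayCode.add_mem hv hw, support_add v w⟩

theorem isC_univ : IsC Finset.univ := fs_all ▸ isC_fs (by decide +kernel)

theorem isC_empty : IsC ∅ := fs_zero ▸ isC_fs (by decide +kernel)

theorem IsC.compl {S : Finset GolayPt} (hS : IsC S) : IsC Sᶜ := by
  have := hS.symmDiff isC_univ
  rwa [← Finset.top_eq_univ, symmDiff_top] at this

theorem IsC.card_cases {S : Finset GolayPt} (h : IsC S) :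
    S = ∅ ∨ S.card = 12 ∨ S.card = 16 ∨ S = Finset.univ ∨ (S.card = 8 ∧ mk S ∈ octL) := by
  obtain ⟨c, hc, rfl⟩ := h.exists_cw
  obtain ⟨h1, -, h2⟩ := cw_spec hc
  rw [card_fs h1, mk_fs h1]
  rcases h2 with h | h | h | h | h
  · exact Or.inl (by rw [h, fs_zero])
  · exact Or.inr (Or.inl h)
  · exact Or.inr (Or.inr (Or.inl h))
  · exact Or.inr (Or.inr (Or.inr (Or.inl (by rw [h, fs_all]))))
  · exact Or.inr (Or.inr (Or.inr (Or.inr h)))

theorem IsC.card_mem {S : Finset GolayPt} (h : IsC S) :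
    S.card = 0 ∨ S.card = 8 ∨ S.card = 12 ∨ S.card = 16 ∨ S.card = 24 := by
  rcases h.card_cases with h | h | h | h | h
  · simp [h]
  · simp [h]
  · simp [h]
  · simp [h]
  · simp [h.1]

theorem IsC.eq_empty {S : Finset GolayPt} (h : IsC S) (h8 : S.card < 8) : S = ∅ := by
  rw [← Finset.card_eq_zero]
  have := h.card_mem
  omega

theorem IsC.four_dvd {S : Finset GolayPt} (h : IsC S) : 4 ∣ S.card := by
  have := h.card_mem
  omega

theorem IsC.mem_octL {S : Finset GolayPt} (h : IsC S) (h8 : S.card = 8) : mk S ∈ octL := by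
  rcases h.card_cases with h | h | h | h | h
  · simp [h] at h8
  · omega
  · omega
  · simp [h] at h8
  · exact h.2

theorem card_symmDiff (S T : Finset GolayPt) :
    (S ∆ T).card + 2 * (S ∩ T).card = S.card + T.card := by
  rw [symmDiff_eq_sup_sdiff_inf, Finset.sup_eq_union, Finset.inf_eq_inter,
    Finset.card_sdiff_of_subset Finset.inter_subset_union, ← Finset.card_union_add_card_inter]
  have := Finset.card_le_card (Finset.inter_subset_union (s := S) (t := T))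
  omega

theorem IsC.even_inter {S T : Finset GolayPt} (hS : IsC S) (hT : IsC T) : 2 ∣ (S ∩ T).card := by
  have h1 := card_symmDiff S T
  have h2 := hS.four_dvd
  have h3 := hT.four_dvd
  have h4 := (hS.symmDiff hT).four_dvd
  omega

end Cfsg.Agent.Gol
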