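import Cfsg.Agent.Gol.Perm

set_option autoImplicit false
set_option maxRecDepth 100000
set_option linter.all false

namespace Cfsg.Agent.Gol
open Cfsg.Agent.CGT

def m24_n0 : Net := Net.cons 16 0x90c2 <|
  Net.cons 8 0x640000 <|
  Net.cons 4 0x800020c <|
  Net.cons 2 0x22200 <|
  Net.cons 1 0x14014104 <|
  Net.cons 2 0x22002 <|
  Net.cons 4 0xc08060c <|
  Net.cons 8 0x740042 <|
  Net.cons 16 0x90c2 <|
  Net.nil
def m24_n1 : Net := Net.cons 16 0x38a0 <|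
  Net.cons 8 0x980000 <|
  Net.cons 4 0xa0000 <|
  Net.cons 1 0x10010100 <|
  Net.cons 2 0x300020 <|
  Net.cons 4 0x80a0400 <|
  Net.cons 8 0x980000 <|
  Net.cons 16 0x38a0 <|
  Net.nil
def m24_n2 : Net := Net.cons 16 0x2f20 <|
  Net.cons 8 0x500000 <|
  Net.cons 4 0x8000000 <|
  Net.cons 2 0x20000000 <|
  Net.cons 1 0x10000000 <|
  Net.cons 2 0x20001020 <|
  Net.cons 4 0xe0a0000 <|
  Net.cons 8 0x730000 <|
  Net.cons 16 0x2f20 <|
  Net.nil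
def m24_n3 : Net := Net.cons 16 0x8080 <|
  Net.cons 8 0x1000d0 <|
  Net.cons 4 0x40800 <|
  Net.cons 2 0x20000000 <|
  Net.cons 1 0x10400000 <|
  Net.cons 2 0x20020210 <|
  Net.cons 4 0x40900 <|
  Net.cons 8 0x1000f0 <|
  Net.cons 16 0x80c0 <|
  Net.nil
def m24_n4 : Net := Net.cons 16 0x4280 <|
  Net.cons 8 0x280008 <|
  Net.cons 4 0x60004 <|
  Net.cons 2 0x20002220 <|
  Net.cons 1 0x40101114 <|
  Net.cons 2 0x22012220 <|
  Net.cons 4 0x60904 <|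
  Net.cons 8 0x280008 <|
  Net.cons 16 0x4280 <|
  Net.nil
def m24_n5 : Net := Net.cons 16 0x888 <|
  Net.cons 8 0x2000c8 <|
  Net.cons 4 0x8040800 <|
  Net.cons 2 0x20000 <|
  Net.cons 1 0x444000 <|
  Net.cons 2 0x20020210 <|
  Net.cons 4 0x8040900 <|
  Net.cons 8 0x2000cc <|
  Net.cons 16 0x888 <|
  Net.nil
def m24_n6 : Net := Net.cons 16 0x1314 <|
  Net.cons 8 0x1c0000 <|
  Net.cons 4 0x40a0000 <|
  Net.cons 2 0x2002 <|
  Net.cons 1 0x104004 <|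
  Net.cons 2 0x12022022 <|
  Net.cons 4 0x40a0000 <|
  Net.cons 8 0x1d0000 <|
  Net.cons 16 0x13b4 <|
  Net.nil
def m24_n7 : Net := Net.cons 16 0x6608 <|
  Net.cons 8 0x240000 <|
  Net.cons 4 0x4000c <|
  Net.cons 2 0x2002202 <|
  Net.cons 1 0x4001141 <|
  Net.cons 2 0x2102202 <|
  Net.cons 4 0x6090c <|
  Net.cons 8 0x640000 <|
  Net.cons 16 0x6608 <|
  Net.nil
def m24_ns : List Net := [m24_n0, m24_n1, m24_n2, m24_n3, m24_n4, m24_n5, m24_n6, m24_n7]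
def m24_ts : List Tab := [(.leaf 0xffbbcdeb388a995399d395d146a6cb83ca418820), (.leaf 0xffbbcdeb387268c83ee7345754594d9c8a418820), (.leaf 0xffbbcdeb38ab2ed3c9657aa968b90999a0418820), (.leaf 0xffbbcdeb38ab2ed3c9657aa968b90999a0418820), (.leaf 0xffbbcdeb389a8ebbc9a87b22ea58b0a992418820), (.leaf 0xffbbcdeb389a8ebbc9a87b22ea58b0a992418820), (.leaf 0xffbbcdeb3849aaf89e70a30ae5aae4959a818820), (.leaf 0xffbbcdeb3849aaf89e70a30ae5aae4959a818820), (.leaf 0xffbbcdeb38241d14ca96455a332a6f3acb760820), (.leaf 0xffbbcdeb38241d14ca96455a332a6f3acb760820), (.leaf 0xffbbcdeb384c57431ed0791a8a8aec94cae1a820), (.leaf 0xffbbcdeb384c57431ed0791a8a8aec94cae1a820), (.leaf 0xffbbcdeb382d8f4485887b5d15aa70a9ae219240), (.leaf 0xffbbcdeb382d8f4485887b5d15aa70a9ae219240), (.leaf 0xffbbcdeb38bbaaa125b045a2b6524f018a41cc27), (.leaf 0xffbbcdeb38bbaaa125b045a2b6524f018a41cc27)]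
def m24_l0 : Level := ⟨0, [[0], [2], [4], [6], [8], [10], [12], [14]], [7, 0, 2, 5, 0, 0, 3, 6, 4], 0xffffff, 24⟩
def m24_l1 : Level := ⟨1, [[0], [2], [4], [6], [8], [10], [12]], [6, 0, 3, 0, 4, 2, 1, 5], 0xfffffe, 23⟩
def m24_l2 : Level := ⟨2, [[0], [2], [4], [6], [8], [10]], [5, 0, 1, 0, 4, 1, 3], 0xfffffc, 22⟩
def m24_l3 : Level := ⟨3, [[0], [2], [4], [6], [8]], [4, 0, 1, 2, 0, 1, 3], 0xfffff8, 21⟩
def m24_l4 : Level := ⟨4, [[0], [2], [4], [6]], [3, 0, 1, 2, 0, 0, 3], 0xfffff0, 20⟩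
def m24_l5 : Level := ⟨5, [[0], [2], [4]], [1, 2, 0, 0, 1, 0], 0xfb7fa0, 16⟩
def m24_l6 : Level := ⟨6, [[0]], [0, 0], 0x48040, 3⟩
def m24_ls : List Level := [m24_l0, m24_l1, m24_l2, m24_l3, m24_l4, m24_l5, m24_l6]
theorem m24_bd : Bd (KM []) 244823040 := bd_of_ub (st := [0, 1, 2, 3, 4, 295007, 5, 8536111, 11685912, 3739786, 7345676, 6, 9347075, 2605066, 7221256, 4645632]) (by decide +kernel)
/-- the generators -/
noncomputable abbrev m24_γ : ℕ → Cfsg.M24 := γK Cfsg.M24 m24_ns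
theorem m24_cert : Cert (φK Cfsg.M24) m24_γ 5 m24_ns m24_ts [0, 2, 4, 6, 8, 10, 12, 14] m24_ls :=
  cert_of M24_eq (by decide +kernel) (d := 0) (by decide +kernel) (by decide +kernel) (by decide +kernel) m24_bd
    (by decide +kernel)
theorem m24_card : Nat.card Cfsg.M24 = 244823040 := m24_cert.card.trans (by decide +kernel)
def m23_n0 : Net := Net.cons 16 0x90c2 <|
  Net.cons 8 0x640000 <|
  Net.cons 4 0x800020c <|
  Net.cons 2 0x22200 <|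
  Net.cons 1 0x14014104 <|
  Net.cons 2 0x22002 <|
  Net.cons 4 0xc08060c <|
  Net.cons 8 0x740042 <|
  Net.cons 16 0x90c2 <|
  Net.nil
def m23_n1 : Net := Net.cons 16 0x38a0 <|
  Net.cons 8 0x980000 <|
  Net.cons 4 0xa0000 <|
  Net.cons 1 0x10010100 <|
  Net.cons 2 0x300020 <|
  Net.cons 4 0x80a0400 <|
  Net.cons 8 0x980000 <|
  Net.cons 16 0x38a0 <|
  Net.nil
def m23_n2 : Net := Net.cons 16 0x2f20 <|
  Net.cons 8 0x500000 <|
  Net.cons 4 0x8000000 <|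
  Net.cons 2 0x20000000 <|
  Net.cons 1 0x10000000 <|
  Net.cons 2 0x20001020 <|
  Net.cons 4 0xe0a0000 <|
  Net.cons 8 0x730000 <|
  Net.cons 16 0x2f20 <|
  Net.nil
def m23_n3 : Net := Net.cons 16 0x8080 <|
  Net.cons 8 0x1000d0 <|
  Net.cons 4 0x40800 <|
  Net.cons 2 0x20000000 <|
  Net.cons 1 0x10400000 <|
  Net.cons 2 0x20020210 <|
  Net.cons 4 0x40900 <|
  Net.cons 8 0x1000f0 <|
  Net.cons 16 0x80c0 <|
  Net.nil
def m23_n4 : Net := Net.cons 16 0x4280 <|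
  Net.cons 8 0x280008 <|
  Net.cons 4 0x60004 <|
  Net.cons 2 0x20002220 <|
  Net.cons 1 0x40101114 <|
  Net.cons 2 0x22012220 <|
  Net.cons 4 0x60904 <|
  Net.cons 8 0x280008 <|
  Net.cons 16 0x4280 <|
  Net.nil
def m23_n5 : Net := Net.cons 16 0x888 <|
  Net.cons 8 0x2000c8 <|
  Net.cons 4 0x8040800 <|
  Net.cons 2 0x20000 <|
  Net.cons 1 0x444000 <|
  Net.cons 2 0x20020210 <|
  Net.cons 4 0x8040900 <|
  Net.cons 8 0x2000cc <|
  Net.cons 16 0x888 <|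
  Net.nil
def m23_n6 : Net := Net.cons 16 0x1314 <|
  Net.cons 8 0x1c0000 <|
  Net.cons 4 0x40a0000 <|
  Net.cons 2 0x2002 <|
  Net.cons 1 0x104004 <|
  Net.cons 2 0x12022022 <|
  Net.cons 4 0x40a0000 <|
  Net.cons 8 0x1d0000 <|
  Net.cons 16 0x13b4 <|
  Net.nil
def m23_ns : List Net := [m23_n0, m23_n1, m23_n2, m23_n3, m23_n4, m23_n5, m23_n6]
def m23_ts : List Tab := [(.leaf 0xffbbcdeb388a995399d395d146a6cb83ca418820), (.leaf 0xffbbcdeb387268c83ee7345754594d9c8a418820), (.leaf 0xffbbcdeb38ab2ed3c9657aa968b90999a0418820), (.leaf 0xffbbcdeb38ab2ed3c9657aa968b90999a0418820), (.leaf 0xffbbcdeb389a8ebbc9a87b22ea58b0a992418820), (.leaf 0xffbbcdeb389a8ebbc9a87b22ea58b0a992418820), (.leaf 0xffbbcdeb3849aaf89e70a30ae5aae4959a818820), (.leaf 0xffbbcdeb3849aaf89e70a30ae5aae4959a818820), (.leaf 0xffbbcdeb38241d14ca96455a332a6f3acb760820), (.leaf 0xffbbcdeb38241d14ca96455a332a6f3acb760820),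 (.leaf 0xffbbcdeb384c57431ed0791a8a8aec94cae1a820), (.leaf 0xffbbcdeb384c57431ed0791a8a8aec94cae1a820), (.leaf 0xffbbcdeb382d8f4485887b5d15aa70a9ae219240), (.leaf 0xffbbcdeb382d8f4485887b5d15aa70a9ae219240)]
def m23_l0 : Level := ⟨1, [[0], [2], [4], [6], [8], [10], [12]], [6, 0, 3, 0, 4, 2, 1, 5], 0xfffffe, 23⟩
def m23_l1 : Level := ⟨2, [[0], [2], [4], [6], [8], [10]], [5, 0, 1, 0, 4, 1, 3], 0xfffffc, 22⟩
def m23_l2 : Level := ⟨3, [[0], [2], [4], [6], [8]], [4, 0, 1, 2, 0, 1, 3], 0xfffff8, 21⟩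
def m23_l3 : Level := ⟨4, [[0], [2], [4], [6]], [3, 0, 1, 2, 0, 0, 3], 0xfffff0, 20⟩
def m23_l4 : Level := ⟨5, [[0], [2], [4]], [1, 2, 0, 0, 1, 0], 0xfb7fa0, 16⟩
def m23_l5 : Level := ⟨6, [[0]], [0, 0], 0x48040, 3⟩
def m23_ls : List Level := [m23_l0, m23_l1, m23_l2, m23_l3, m23_l4, m23_l5]
theorem m23_bd : Bd (KM [1]) 10200960 := bd_of_ub (st := [1, 2, 3, 4, 295007, 5, 8536111, 11685912, 3739786, 7345676, 6, 9347075, 2605066, 7221256, 4645632]) (by decide +kernel)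
/-- the generators -/
noncomputable abbrev m23_γ : ℕ → Cfsg.Spor.M23 := γK Cfsg.Spor.M23 m23_ns
theorem m23_cert : Cert (φK Cfsg.Spor.M23) m23_γ 5 m23_ns m23_ts [0, 2, 4, 6, 8, 10, 12] m23_ls :=
  cert_of M23_eq (by decide +kernel) (d := 0) (by decide +kernel) (by decide +kernel) (by decide +kernel) m23_bd
    (by decide +kernel)
theorem m23_card : Nat.card Cfsg.Spor.M23 = 10200960 := m23_cert.card.trans (by decide +kernel)
def m22_n0 : Net := Net.cons 16 0x90c2 <|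
  Net.cons 8 0x640000 <|
  Net.cons 4 0x800020c <|
  Net.cons 2 0x22200 <|
  Net.cons 1 0x14014104 <|
  Net.cons 2 0x22002 <|
  Net.cons 4 0xc08060c <|
  Net.cons 8 0x740042 <|
  Net.cons 16 0x90c2 <|
  Net.nil
def m22_n1 : Net := Net.cons 16 0x38a0 <|
  Net.cons 8 0x980000 <|
  Net.cons 4 0xa0000 <|
  Net.cons 1 0x10010100 <|
  Net.cons 2 0x300020 <|
  Net.cons 4 0x80a0400 <|
  Net.cons 8 0x980000 <|
  Net.cons 16 0x38a0 <|
  Net.nil
def m22_n2 : Net := Net.cons 16 0x2f20 <|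
  Net.cons 8 0x500000 <|
  Net.cons 4 0x8000000 <|
  Net.cons 2 0x20000000 <|
  Net.cons 1 0x10000000 <|
  Net.cons 2 0x20001020 <|
  Net.cons 4 0xe0a0000 <|
  Net.cons 8 0x730000 <|
  Net.cons 16 0x2f20 <|
  Net.nil
def m22_n3 : Net := Net.cons 16 0x8080 <|
  Net.cons 8 0x1000d0 <|
  Net.cons 4 0x40800 <|
  Net.cons 2 0x20000000 <|
  Net.cons 1 0x10400000 <|
  Net.cons 2 0x20020210 <|
  Net.cons 4 0x40900 <|
  Net.cons 8 0x1000f0 <|
  Net.cons 16 0x80c0 <|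
  Net.nil
def m22_n4 : Net := Net.cons 16 0x4280 <|
  Net.cons 8 0x280008 <|
  Net.cons 4 0x60004 <|
  Net.cons 2 0x20002220 <|
  Net.cons 1 0x40101114 <|
  Net.cons 2 0x22012220 <|
  Net.cons 4 0x60904 <|
  Net.cons 8 0x280008 <|
  Net.cons 16 0x4280 <|
  Net.nil
def m22_n5 : Net := Net.cons 16 0x888 <|
  Net.cons 8 0x2000c8 <|
  Net.cons 4 0x8040800 <|
  Net.cons 2 0x20000 <|
  Net.cons 1 0x444000 <|
  Net.cons 2 0x20020210 <|
  Net.cons 4 0x8040900 <|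
  Net.cons 8 0x2000cc <|
  Net.cons 16 0x888 <|
  Net.nil
def m22_ns : List Net := [m22_n0, m22_n1, m22_n2, m22_n3, m22_n4, m22_n5]
def m22_ts : List Tab := [(.leaf 0xffbbcdeb388a995399d395d146a6cb83ca418820), (.leaf 0xffbbcdeb387268c83ee7345754594d9c8a418820), (.leaf 0xffbbcdeb38ab2ed3c9657aa968b90999a0418820), (.leaf 0xffbbcdeb38ab2ed3c9657aa968b90999a0418820), (.leaf 0xffbbcdeb389a8ebbc9a87b22ea58b0a992418820), (.leaf 0xffbbcdeb389a8ebbc9a87b22ea58b0a992418820), (.leaf 0xffbbcdeb3849aaf89e70a30ae5aae4959a818820), (.leaf 0xffbbcdeb3849aaf89e70a30ae5aae4959a818820), (.leaf 0xffbbcdeb38241d14ca96455a332a6f3acb760820), (.leaf 0xffbbcdeb38241d14ca96455a332a6f3acb760820), (.leaf 0xffbbcdeb384c57431ed0791a8a8aec94cae1a820), (.leaf 0xffbbcdeb384c57431ed0791a8a8aec94cae1a820)]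
def m22_l0 : Level := ⟨2, [[0], [2], [4], [6], [8], [10]], [5, 0, 1, 0, 4, 1, 3], 0xfffffc, 22⟩
def m22_l1 : Level := ⟨3, [[0], [2], [4], [6], [8]], [4, 0, 1, 2, 0, 1, 3], 0xfffff8, 21⟩
def m22_l2 : Level := ⟨4, [[0], [2], [4], [6]], [3, 0, 1, 2, 0, 0, 3], 0xfffff0, 20⟩
def m22_l3 : Level := ⟨5, [[0], [2], [4]], [1, 2, 0, 0, 1, 0], 0xfb7fa0, 16⟩
def m22_l4 : Level := ⟨6, [[0]], [0, 0], 0x48040, 3⟩
def m22_ls : List Level := [m22_l0, m22_l1, m22_l2, m22_l3, m22_l4]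
theorem m22_bd : Bd (KM [2, 1]) 443520 := bd_of_ub (st := [2, 3, 4, 295007, 5, 8536111, 11685912, 3739786, 7345676, 6, 9347075, 2605066, 7221256, 4645632]) (by decide +kernel)
/-- the generators -/
noncomputable abbrev m22_γ : ℕ → Cfsg.Spor.M22 := γK Cfsg.Spor.M22 m22_ns
theorem m22_cert : Cert (φK Cfsg.Spor.M22) m22_γ 5 m22_ns m22_ts [0, 2, 4, 6, 8, 10] m22_ls :=
  cert_of M22_eq (by decide +kernel) (d := 0) (by decide +kernel) (by decide +kernel) (by decide +kernel) m22_bd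
    (by decide +kernel)
theorem m22_card : Nat.card Cfsg.Spor.M22 = 443520 := m22_cert.card.trans (by decide +kernel)
def m12_n0 : Net := Net.cons 16 0x6fe0 <|
  Net.cons 8 0x8800e0 <|
  Net.cons 4 0x8000008 <|
  Net.cons 2 0x22002 <|
  Net.cons 1 0x40014001 <|
  Net.cons 2 0x21002 <|
  Net.cons 4 0x6070008 <|
  Net.cons 8 0x8b00e0 <|
  Net.cons 16 0x6fe0 <|
  Net.nil
def m12_n1 : Net := Net.cons 16 0x990a <|
  Net.cons 8 0x740084 <|
  Net.cons 4 0x6080806 <|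
  Net.cons 2 0x2022020 <|
  Net.cons 1 0x41014040 <|
  Net.cons 2 0x1022223 <|
  Net.cons 4 0x6090806 <|
  Net.cons 8 0x6400a6 <|
  Net.cons 16 0x990a <|
  Net.nil
def m12_n2 : Net := Net.cons 16 0xa102 <|
  Net.cons 8 0x240012 <|
  Net.cons 4 0x80200 <|
  Net.cons 1 0x1000 <|
  Net.cons 2 0x21200020 <|
  Net.cons 4 0x90601 <|
  Net.cons 8 0x240012 <|
  Net.cons 16 0xa102 <|
  Net.nil
def m12_n3 : Net := Net.cons 16 0x40a0 <|
  Net.cons 8 0x200090 <|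
  Net.cons 4 0x80c00 <|
  Net.cons 2 0x20000220 <|
  Net.cons 1 0x40000140 <|
  Net.cons 2 0x20121220 <|
  Net.cons 4 0x80c01 <|
  Net.cons 8 0x200090 <|
  Net.cons 16 0x40a8 <|
  Net.nil
def m12_n4 : Net := Net.cons 16 0x3030 <|
  Net.cons 8 0x400088 <|
  Net.cons 2 0x220000 <|
  Net.cons 1 0x110010 <|
  Net.cons 2 0x10220200 <|
  Net.cons 4 0x90008 <|
  Net.cons 8 0x60008c <|
  Net.cons 16 0x3030 <|
  Net.nil
def m12_n5 : Net := Net.cons 16 0x8100 <|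
  Net.cons 8 0x600000 <|
  Net.cons 4 0x40a0208 <|
  Net.cons 2 0x20200 <|
  Net.cons 1 0x10400 <|
  Net.cons 2 0x21221212 <|
  Net.cons 4 0x40a0208 <|
  Net.cons 8 0x600050 <|
  Net.cons 16 0x8100 <|
  Net.nil
def m12_ns : List Net := [m12_n0, m12_n1, m12_n2, m12_n3, m12_n4, m12_n5]
def m12_ts : List Tab := [(.leaf 0xffbbcdeb38b32eb399a80293584cb474a241882f), (.leaf 0xffbbcdeb38add88518ab01e36a39b09c9241882f), (.leaf 0xffbbcdeb3882d172bcec93674ac556481c418826), (.leaf 0xffbbcdeb38a216c6bd57915d0b24f58826418826), (.leaf 0xffbbcdeb38bd9f06a094aaa605b932298f11882c), (.leaf 0xffbbcdeb38bd9f06a094aaa605b932298f11882c), (.leaf 0xffbbcdeb38450d61c8f0795a0591378d5ca9882c), (.leaf 0xffbbcdeb38450d61c8f0795a0591378d5ca9882c), (.leaf 0xffbbcdeb388329524a375b8b678868399b34a820), (.leaf 0xffbbcdeb388329524a375b8b678868399b34a820), (.leaf 0xffbbcdeb38821f48ca77a91465b5360b0ae188e0), (.leaf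 0xffbbcdeb38821f48ca77a91465b5360b0ae188e0)]
def m12_l0 : Level := ⟨1, [[0], [2], [4], [6], [8], [10]], [5, 0, 1, 0, 3, 4], 0xa66be, 12⟩
def m12_l1 : Level := ⟨2, [[0], [2], [4], [6], [8]], [4, 0, 1, 0, 0, 3], 0xa66bc, 11⟩
def m12_l2 : Level := ⟨3, [[0], [2], [4], [6]], [3, 0, 1, 0, 3], 0xa66b8, 10⟩
def m12_l3 : Level := ⟨4, [[0], [2], [4]], [2, 0, 1, 2, 0], 0xa66b0, 9⟩
def m12_l4 : Level := ⟨5, [[0], [2]], [0, 1, 0, 0], 0xa66a0, 8⟩
def m12_ls : List Level := [m12_l0, m12_l1, m12_l2, m12_l3, m12_l4]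
theorem m12_bd : Bd (KM [681662]) 95040 := bd_of_ub (st := [1, 2, 3, 4, 295007, 5, 15806496, 5550085, 14716939, 9801746, 9011470, 4845570, 9347075, 2019456, 15245828]) (by decide +kernel)
/-- the generators -/
noncomputable abbrev m12_γ : ℕ → Cfsg.Spor.M12 := γK Cfsg.Spor.M12 m12_ns
theorem m12_cert : Cert (φK Cfsg.Spor.M12) m12_γ 5 m12_ns m12_ts [0, 2, 4, 6, 8, 10] m12_ls :=
  cert_of M12_eq (by decide +kernel) (d := 0) (by decide +kernel) (by decide +kernel) (by decide +kernel) m12_bd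
    (by decide +kernel)
theorem m12_card : Nat.card Cfsg.Spor.M12 = 95040 := m12_cert.card.trans (by decide +kernel)
def m11_n0 : Net := Net.cons 16 0x6fe0 <|
  Net.cons 8 0x8800e0 <|
  Net.cons 4 0x8000008 <|
  Net.cons 2 0x22002 <|
  Net.cons 1 0x40014001 <|
  Net.cons 2 0x21002 <|
  Net.cons 4 0x6070008 <|
  Net.cons 8 0x8b00e0 <|
  Net.cons 16 0x6fe0 <|
  Net.nil
def m11_n1 : Net := Net.cons 16 0x990a <|
  Net.cons 8 0x740084 <|
  Net.cons 4 0x6080806 <|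
  Net.cons 2 0x2022020 <|
  Net.cons 1 0x41014040 <|
  Net.cons 2 0x1022223 <|
  Net.cons 4 0x6090806 <|
  Net.cons 8 0x6400a6 <|
  Net.cons 16 0x990a <|
  Net.nil
def m11_n2 : Net := Net.cons 16 0xa102 <|
  Net.cons 8 0x240012 <|
  Net.cons 4 0x80200 <|
  Net.cons 1 0x1000 <|
  Net.cons 2 0x21200020 <|
  Net.cons 4 0x90601 <|
  Net.cons 8 0x240012 <|
  Net.cons 16 0xa102 <|
  Net.nil
def m11_n3 : Net := Net.cons 16 0x40a0 <|
  Net.cons 8 0x200090 <|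
  Net.cons 4 0x80c00 <|
  Net.cons 2 0x20000220 <|
  Net.cons 1 0x40000140 <|
  Net.cons 2 0x20121220 <|
  Net.cons 4 0x80c01 <|
  Net.cons 8 0x200090 <|
  Net.cons 16 0x40a8 <|
  Net.nil
def m11_n4 : Net := Net.cons 16 0x3030 <|
  Net.cons 8 0x400088 <|
  Net.cons 2 0x220000 <|
  Net.cons 1 0x110010 <|
  Net.cons 2 0x10220200 <|
  Net.cons 4 0x90008 <|
  Net.cons 8 0x60008c <|
  Net.cons 16 0x3030 <|
  Net.nil
def m11_ns : List Net := [m11_n0, m11_n1, m11_n2, m11_n3, m11_n4]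
def m11_ts : List Tab := [(.leaf 0xffbbcdeb38b32eb399a80293584cb474a241882f), (.leaf 0xffbbcdeb38add88518ab01e36a39b09c9241882f), (.leaf 0xffbbcdeb3882d172bcec93674ac556481c418826), (.leaf 0xffbbcdeb38a216c6bd57915d0b24f58826418826), (.leaf 0xffbbcdeb38bd9f06a094aaa605b932298f11882c), (.leaf 0xffbbcdeb38bd9f06a094aaa605b932298f11882c), (.leaf 0xffbbcdeb38450d61c8f0795a0591378d5ca9882c), (.leaf 0xffbbcdeb38450d61c8f0795a0591378d5ca9882c), (.leaf 0xffbbcdeb388329524a375b8b678868399b34a820), (.leaf 0xffbbcdeb388329524a375b8b678868399b34a820)]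
def m11_l0 : Level := ⟨2, [[0], [2], [4], [6], [8]], [4, 0, 1, 0, 0, 3], 0xa66bc, 11⟩
def m11_l1 : Level := ⟨3, [[0], [2], [4], [6]], [3, 0, 1, 0, 3], 0xa66b8, 10⟩
def m11_l2 : Level := ⟨4, [[0], [2], [4]], [2, 0, 1, 2, 0], 0xa66b0, 9⟩
def m11_l3 : Level := ⟨5, [[0], [2]], [0, 1, 0, 0], 0xa66a0, 8⟩
def m11_ls : List Level := [m11_l0, m11_l1, m11_l2, m11_l3]
theorem m11_bd : Bd (KM [2, 681662]) 7920 := bd_of_ub (st := [2, 3, 4, 295007, 5, 15806496, 5550085, 14716939, 9801746, 9011470, 4845570, 9347075, 2019456, 15245828]) (by decide +kernel)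
/-- the generators -/
noncomputable abbrev m11_γ : ℕ → Cfsg.Spor.M11 := γK Cfsg.Spor.M11 m11_ns
theorem m11_cert : Cert (φK Cfsg.Spor.M11) m11_γ 5 m11_ns m11_ts [0, 2, 4, 6, 8] m11_ls :=
  cert_of M11_eq (by decide +kernel) (d := 0) (by decide +kernel) (by decide +kernel) (by decide +kernel) m11_bd
    (by decide +kernel)
theorem m11_card : Nat.card Cfsg.Spor.M11 = 7920 := m11_cert.card.trans (by decide +kernel)

end Cfsg.Agent.Gol
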