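import Cfsg.Agent.Gol.Cert
import Cfsg.Agent.CGT.Out2

set_option autoImplicit false
set_option linter.style.haveILetI false

/-! Automorphisms induced by normalising elements. -/

namespace Cfsg.Agent.Gol

open Cfsg Cfsg.Agent.CGT Equiv

theorem exists_aut_conj {G : Type*} [Group G] {K : Subgroup G} [Finite K] {γ : ℕ → K}
    {L : List ℕ} (hgen : gp γ L = ⊤) (n : G) {δ : ℕ → K} (h : ∀ j, n * γ j * n⁻¹ = δ j) :
    ∃ β : MulAut K, ∀ j, β (γ j) = δ j := by
  have h1 : ∀ x : K, n * x * n⁻¹ ∈ K := by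
    intro x
    have : gp γ L ≤ (K.comap (MulAut.conj n).toMonoidHom).comap K.subtype := gp_le fun a _ =>
      ext_mem (by
        show n * γ (a / 2) * n⁻¹ ∈ K
        rw [h]; exact (δ _).2)
    exact this (hgen ▸ Subgroup.mem_top x)
  let f : K →* K := ((MulAut.conj n).toMonoidHom.comp K.subtype).codRestrict K h1
  have hf : Function.Injective f := fun x y e =>
    Subtype.ext ((MulAut.conj n).injective (congrArg Subtype.val e))
  exact ⟨MulEquiv.ofBijective f (Finite.injective_iff_bijective.1 hf), fun j => Subtype.ext (h j)⟩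

theorem φ0_inj : Function.Injective φ0 := fun σ τ h => by
  ext1 p
  apply ix_inj
  rw [← φ0_ix, h, φ0_ix]

/-- Conjugation by the network `nn` sends the generators to the given words. -/
noncomputable def conjOK (ns : List Net) (nn : Net) (W : List (List ℕ)) : Bool :=
  (validAll (2 ^ 5) [nn] && fixAbove 5 24 [nn]) && (Nat.beq W.length ns.length &&
    allLt ns.length fun j => allLt 5 fun t =>
      Nat.beq (gat [nn] 1 (gat ns (Nat.mul 2 j) (gat [nn] 0 (sl t 5)))) (gatW ns (nth [] W j) (sl t 5)))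

theorem exists_aut_of_conjOK {K : Subgroup (Perm GolayPt)} {ns : List Net} {ts : List Tab}
    {L : List ℕ} {ls : List Level} {γ : ℕ → K} (C : Cert (φK K) γ 5 ns ts L ls) {nn : Net}
    {W : List (List ℕ)} (h : conjOK ns nn W = true) :
    ∃ β : MulAut K, ∀ j, β (γ j) = wg γ W j := by
  simp only [conjOK, Bool.and_eq_true, Nat.beq_eq] at h
  obtain ⟨⟨hv, hf⟩, hl, h⟩ := h
  have e := φ0_res _ (fixAbove_sound hv hf 0)
  refine exists_aut_conj C.gen (res _ (fixAbove_sound hv hf 0)) fun j => φ0_inj ?_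
  have e1 : φ0 (γ j) = netPerm ns j := C.M.gen j
  have e2 : φ0 (wg γ W j : K) = ev (CGT.lp ns) (nth [] W j) := C.M.map_ev' (nth [] W j)
  rw [map_mul, map_mul, map_inv, e, e1, e2]
  by_cases hj : j < ns.length
  · have f0 : CGT.lp [nn] 0 = netPerm [nn] 0 := ext_two_mul _ 0
    have f1 : CGT.lp [nn] 1 = (netPerm [nn] 0)⁻¹ := ext_two_mul_add_one _ 0
    have h0 : netPerm [nn] 0 ∈ bddPerm (2 ^ 5) := f0 ▸ lp_mem hv 0
    have h1 : netPerm ns j ∈ bddPerm (2 ^ 5) := by
      have := lp_mem C.M.valid (2 * j); rwa [CGT.lp, ext_two_mul] at this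
    refine perm_eq_of_slices ((bddPerm _).mul_mem ((bddPerm _).mul_mem h0 h1) ((bddPerm _).inv_mem h0))
      (ev_lp_mem C.M.valid _) fun t ht i => ?_
    have := congrArg (fun x => Nat.testBit x i)
      (Nat.eq_of_beq_eq_true (allLt_iff.1 (allLt_iff.1 h j hj) t ht))
    simp only [testBit_gat hv, testBit_gat C.M.valid, testBit_gatW C.M.valid] at this
    rw [← this, show Nat.mul 2 j = 2 * j from rfl, f0, f1, CGT.lp, ext_two_mul, Perm.mul_apply,
      Perm.mul_apply]
  · rw [netPerm_of_le ns (by omega), nth_eq, List.getD_eq_default _ _ (by omega)]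
    simp

end Cfsg.Agent.Gol
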