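import Cfsg.Agent.Gol.M12PresR

set_option autoImplicit false
set_option Elab.async false
set_option maxRecDepth 100000
set_option linter.all false

namespace Cfsg.Agent.Gol
open Cfsg.Agent.CGT

noncomputable def m12l0_n0 : Net := Net.cons 8 0x40 <|
  Net.cons 2 0x2 <|
  Net.cons 1 0x14 <|
  Net.cons 2 0x22 <|
  Net.cons 4 0x408 <|
  Net.cons 8 0x44 <|
  Net.nil
noncomputable def m12l0_n1 : Net := Net.cons 8 0x80 <|
  Net.cons 4 0x806 <|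
  Net.cons 2 0x2 <|
  Net.cons 1 0x404 <|
  Net.cons 2 0x10 <|
  Net.cons 4 0x804 <|
  Net.cons 8 0x84 <|
  Net.nil
noncomputable def m12l0_n2 : Net := Net.cons 8 0xa0 <|
  Net.cons 4 0xa02 <|
  Net.cons 1 0x510 <|
  Net.cons 4 0xa06 <|
  Net.cons 8 0xa0 <|
  Net.nil
noncomputable def m12l0_n3 : Net := Net.cons 8 0x40 <|
  Net.cons 4 0x604 <|
  Net.cons 2 0x2000 <|
  Net.cons 1 0x4000 <|
  Net.cons 2 0x2110 <|
  Net.cons 4 0x606 <|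
  Net.cons 8 0x40 <|
  Net.nil
noncomputable def m12l0_n4 : Net := Net.cons 8 0x8 <|
  Net.cons 4 0x4 <|
  Net.cons 2 0x20 <|
  Net.cons 1 0x14 <|
  Net.cons 2 0x320 <|
  Net.cons 4 0x4 <|
  Net.cons 8 0x8 <|
  Net.nil
noncomputable def m12l0_n5 : Net := Net.cons 8 0x4 <|
  Net.cons 4 0xc <|
  Net.cons 2 0x20 <|
  Net.cons 1 0x45 <|
  Net.cons 2 0x120 <|
  Net.cons 4 0xc <|
  Net.cons 8 0x4 <|
  Net.nil
noncomputable def m12l0_ns : List Net := [m12l0_n0, m12l0_n1, m12l0_n2, m12l0_n3, m12l0_n4, m12l0_n5]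
noncomputable def m12l0_R : List (List ℕ) := [[4, 4], [6, 6], [8, 8], [10, 10], [0, 3, 3, 0], [3, 0, 3, 1], [3, 0, 4, 0, 4, 2, 4], [0, 6, 2, 6, 3, 6, 0], [4, 1, 6, 2, 4, 6, 1, 1], [0, 8, 3, 8, 2, 8, 1, 6], [1, 6, 1, 8, 0, 4, 8, 2, 6], [3, 4, 8, 3, 4, 6, 8, 4, 6], [6, 8, 6, 3, 4, 2, 8, 6, 3], [6, 10, 1, 8, 0, 10, 6, 8], [4, 10, 2, 10, 1, 10, 4, 0], [4, 0, 10, 2, 0, 4, 10, 1, 1], [6, 0, 10, 4, 6, 0, 10, 4], [8, 6, 0, 8, 0, 8, 1, 4, 1]]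
noncomputable def m12l0_S0 : List (List ℕ) := [[0], [2], [4], [6], [8]]
noncomputable def m12l0_E : Enum := ⟨m12l0_ns, m12l0_R, m12l0_S0, [], 0⟩
theorem m12l0_v : validAll (2 ^ 4) m12l0_ns = true := by decide +kernel
theorem m12l0_p0 : holdsB 4 m12l0_ns m12l0_R = true := by decide +kernel
theorem m12l0_p : Holds (lp m12l0_ns) m12l0_R := holdsB_sound m12l0_v m12l0_p0
theorem m12l0_f : allL m12l0_E.Sub (fixN m12l0_E.ns m12l0_E.b0) = true := by decide +kernel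
theorem m12l0_r0 : m12l0_E.run [42, 12, 2, 1, 6, 5, 10, 9, 14, 13, 18, 0, 26, 4, 34, 8, 8208, 13, 4116, 1, 12308, 5, 12304, 1, 8212, 13, 3, 1, 7, 9, 11, 15, 19, 12340, 12344, 12, 20540, 0, 32828, 5, 8208, 13, 12304, 1, 20, 13, 8216, 0, 12312, 1, 16408, 20504, 9, 4152, 12344, 20536, 12, 64, 4, 4124, 8220, 9, 8224, 4, 16416, 20512, 12340, 12324, 12328, 24616, 8, 8236, 8260, 1, 16452, 1, 28740, 8228, 13, 28708, 4148] (1 <<< 0) (List.replicate 12 0) (Enum.done 12 [0, 2, 4, 6, 8, 10]) = true := by decide +kernel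
theorem m12l0_fin {G : Type*} [Group G] {γ : ℕ → G} (hR : Holds (ext γ) m12l0_R) {H : Subgroup G}
    (hS : ∀ u ∈ m12l0_S0, ev (ext γ) u ∈ H) : m12l0_E.Fin γ H 12 [0, 2, 4, 6, 8, 10] :=
  have hy : m12l0_E.Hyp γ H := Enum.hyp_of m12l0_v hR m12l0_p hS m12l0_f
  (Enum.fin_of_done hy (Enum.inv_init 12) m12l0_r0)
noncomputable def m12l1_n0 : Net := Net.cons 8 0x88 <|
  Net.cons 4 0x806 <|
  Net.cons 2 0x220 <|
  Net.cons 1 0x140 <|
  Net.cons 2 0x330 <|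
  Net.cons 4 0x2 <|
  Net.cons 8 0x88 <|
  Net.nil
noncomputable def m12l1_n1 : Net := Net.cons 8 0x94 <|
  Net.cons 4 0x404 <|
  Net.cons 2 0x2002 <|
  Net.cons 1 0x1004 <|
  Net.cons 2 0x3000 <|
  Net.cons 4 0x500 <|
  Net.cons 8 0x94 <|
  Net.nil
noncomputable def m12l1_n2 : Net := Net.cons 8 0x4 <|
  Net.cons 4 0x2 <|
  Net.cons 1 0x50 <|
  Net.cons 2 0x102 <|
  Net.cons 4 0x2 <|
  Net.cons 8 0x4 <|
  Net.nil
noncomputable def m12l1_n3 : Net := Net.cons 8 0x4 <|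
  Net.cons 4 0x4 <|
  Net.cons 2 0x220 <|
  Net.cons 1 0x414 <|
  Net.cons 2 0x220 <|
  Net.cons 4 0x6 <|
  Net.cons 8 0x4 <|
  Net.nil
noncomputable def m12l1_n4 : Net := Net.cons 8 0x80 <|
  Net.cons 4 0x804 <|
  Net.cons 2 0x20 <|
  Net.cons 1 0x541 <|
  Net.cons 2 0x320 <|
  Net.cons 4 0x804 <|
  Net.cons 8 0x80 <|
  Net.nil
noncomputable def m12l1_ns : List Net := [m12l1_n0, m12l1_n1, m12l1_n2, m12l1_n3, m12l1_n4, Net.nil]
noncomputable def m12l1_R : List (List ℕ) := [[4, 4], [6, 6], [8, 8], [0, 3, 3, 0], [3, 0, 3, 1], [3, 0, 4, 0, 4, 2, 4], [0, 6, 2, 6, 3, 6, 0], [4, 1, 6, 2, 4, 6, 1, 1], [0, 8, 3, 8, 2, 8, 1, 6], [1, 6, 1, 8, 0, 4, 8, 2, 6], [3, 4, 8, 3, 4, 6, 8, 4, 6], [6, 8, 6, 3, 4, 2, 8, 6, 3], [8, 6, 0, 8, 0, 8, 1, 4, 1]]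
noncomputable def m12l1_S0 : List (List ℕ) := [[0], [2], [4], [6]]
noncomputable def m12l1_E : Enum := ⟨m12l1_ns, m12l1_R, m12l1_S0, [], 0⟩
theorem m12l1_v : validAll (2 ^ 4) m12l1_ns = true := by decide +kernel
theorem m12l1_p0 : holdsB 4 m12l1_ns m12l1_R = true := by decide +kernel
theorem m12l1_p : Holds (lp m12l1_ns) m12l1_R := holdsB_sound m12l1_v m12l1_p0
theorem m12l1_f : allL m12l1_E.Sub (fixN m12l1_E.ns m12l1_E.b0) = true := by decide +kernel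
theorem m12l1_r0 : m12l1_E.run [34, 8, 2, 1, 6, 5, 10, 9, 14, 13, 18, 0, 26, 4, 8204, 13, 4112, 1, 12304, 5, 12300, 1, 8208, 13, 3, 1, 7, 9, 11, 15, 12320, 20516, 0, 20520, 4, 32808, 4, 12332, 13, 20528, 12308, 1, 20500, 9, 24596, 4120, 12312, 16408, 13, 8204, 13, 12300, 1, 4112, 1, 8212, 4120, 4, 16412, 12320, 12324, 24612, 8, 8232, 8240, 1] (1 <<< 0) (List.replicate 10 0) (Enum.done 11 [0, 2, 4, 6, 8]) = true := by decide +kernel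
theorem m12l1_fin {G : Type*} [Group G] {γ : ℕ → G} (hR : Holds (ext γ) m12l1_R) {H : Subgroup G}
    (hS : ∀ u ∈ m12l1_S0, ev (ext γ) u ∈ H) : m12l1_E.Fin γ H 11 [0, 2, 4, 6, 8] :=
  have hy : m12l1_E.Hyp γ H := Enum.hyp_of m12l1_v hR m12l1_p hS m12l1_f
  (Enum.fin_of_done hy (Enum.inv_init 10) m12l1_r0)
noncomputable def m12l2_n0 : Net := Net.cons 8 0x26 <|
  Net.cons 4 0x408 <|
  Net.cons 2 0x2020 <|
  Net.cons 1 0x4110 <|
  Net.cons 2 0x2030 <|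
  Net.cons 4 0x600 <|
  Net.cons 8 0x26 <|
  Net.nil
noncomputable def m12l2_n1 : Net := Net.cons 8 0xc4 <|
  Net.cons 4 0x802 <|
  Net.cons 1 0x410 <|
  Net.cons 2 0x102 <|
  Net.cons 4 0xc00 <|
  Net.cons 8 0xc4 <|
  Net.nil
noncomputable def m12l2_n2 : Net := Net.cons 8 0xa0 <|
  Net.cons 4 0x202 <|
  Net.cons 1 0x114 <|
  Net.cons 2 0x2000 <|
  Net.cons 4 0x202 <|
  Net.cons 8 0xa0 <|
  Net.nil
noncomputable def m12l2_n3 : Net := Net.cons 4 0x8 <|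
  Net.cons 1 0x105 <|
  Net.cons 2 0x20 <|
  Net.cons 4 0x8 <|
  Net.nil
noncomputable def m12l2_ns : List Net := [m12l2_n0, m12l2_n1, m12l2_n2, m12l2_n3, Net.nil, Net.nil]
noncomputable def m12l2_R : List (List ℕ) := [[4, 4], [6, 6], [0, 3, 3, 0], [3, 0, 3, 1], [3, 0, 4, 0, 4, 2, 4], [0, 6, 2, 6, 3, 6, 0], [4, 1, 6, 2, 4, 6, 1, 1]]
noncomputable def m12l2_S0 : List (List ℕ) := [[0], [2], [4]]
noncomputable def m12l2_E : Enum := ⟨m12l2_ns, m12l2_R, m12l2_S0, [], 0⟩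
theorem m12l2_v : validAll (2 ^ 4) m12l2_ns = true := by decide +kernel
theorem m12l2_p0 : holdsB 4 m12l2_ns m12l2_R = true := by decide +kernel
theorem m12l2_p : Holds (lp m12l2_ns) m12l2_R := holdsB_sound m12l2_v m12l2_p0
theorem m12l2_f : allL m12l2_E.Sub (fixN m12l2_E.ns m12l2_E.b0) = true := by decide +kernel
theorem m12l2_r0 : m12l2_E.run [26, 4, 2, 1, 6, 5, 10, 9, 14, 13, 18, 0, 8200, 13, 4108, 1, 12300, 5, 12296, 1, 8204, 13, 3, 1, 7, 9, 11, 12308, 16408, 0, 28696, 5, 8200, 13, 12296, 1, 12, 13, 8208, 0, 12304, 1, 20496, 9, 4116, 4, 8216, 4, 20504] (1 <<< 0) (List.replicate 8 0) (Enum.done 10 [0, 2, 4, 6]) = true := by decide +kernel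
theorem m12l2_fin {G : Type*} [Group G] {γ : ℕ → G} (hR : Holds (ext γ) m12l2_R) {H : Subgroup G}
    (hS : ∀ u ∈ m12l2_S0, ev (ext γ) u ∈ H) : m12l2_E.Fin γ H 10 [0, 2, 4, 6] :=
  have hy : m12l2_E.Hyp γ H := Enum.hyp_of m12l2_v hR m12l2_p hS m12l2_f
  (Enum.fin_of_done hy (Enum.inv_init 8) m12l2_r0)
noncomputable def m12l3_n0 : Net := Net.cons 8 0x68 <|
  Net.cons 4 0x606 <|
  Net.cons 2 0x200 <|
  Net.cons 1 0x440 <|
  Net.cons 2 0x130 <|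
  Net.cons 4 0x606 <|
  Net.cons 8 0x68 <|
  Net.nil
noncomputable def m12l3_n1 : Net := Net.cons 8 0x1a <|
  Net.cons 4 0xa00 <|
  Net.cons 2 0x20 <|
  Net.cons 1 0x1040 <|
  Net.cons 2 0x2000 <|
  Net.cons 4 0xb04 <|
  Net.cons 8 0x1a <|
  Net.nil
noncomputable def m12l3_n2 : Net := Net.cons 8 0x40 <|
  Net.cons 4 0x404 <|
  Net.cons 2 0x20 <|
  Net.cons 1 0x41 <|
  Net.cons 2 0x120 <|
  Net.cons 4 0x40c <|
  Net.cons 8 0x40 <|
  Net.nil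
noncomputable def m12l3_ns : List Net := [m12l3_n0, m12l3_n1, m12l3_n2, Net.nil, Net.nil, Net.nil]
noncomputable def m12l3_R : List (List ℕ) := [[4, 4], [0, 3, 3, 0], [3, 0, 3, 1], [3, 0, 4, 0, 4, 2, 4]]
noncomputable def m12l3_S0 : List (List ℕ) := [[0], [2]]
noncomputable def m12l3_E : Enum := ⟨m12l3_ns, m12l3_R, m12l3_S0, [], 0⟩
theorem m12l3_v : validAll (2 ^ 4) m12l3_ns = true := by decide +kernel
theorem m12l3_p0 : holdsB 4 m12l3_ns m12l3_R = true := by decide +kernel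
theorem m12l3_p : Holds (lp m12l3_ns) m12l3_R := holdsB_sound m12l3_v m12l3_p0
theorem m12l3_f : allL m12l3_E.Sub (fixN m12l3_E.ns m12l3_E.b0) = true := by decide +kernel
theorem m12l3_r0 : m12l3_E.run [18, 0, 2, 1, 6, 5, 10, 9, 14, 13, 2, 1, 8196, 13, 4104, 1, 12296, 5, 4100, 13, 8196, 13, 12292, 1, 3, 1, 7, 9, 8204, 0, 16396, 0, 24588, 8204] (1 <<< 0) (List.replicate 6 0) (Enum.done 9 [0, 2, 4]) = true := by decide +kernel
theorem m12l3_fin {G : Type*} [Group G] {γ : ℕ → G} (hR : Holds (ext γ) m12l3_R) {H : Subgroup G}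
    (hS : ∀ u ∈ m12l3_S0, ev (ext γ) u ∈ H) : m12l3_E.Fin γ H 9 [0, 2, 4] :=
  have hy : m12l3_E.Hyp γ H := Enum.hyp_of m12l3_v hR m12l3_p hS m12l3_f
  (Enum.fin_of_done hy (Enum.inv_init 6) m12l3_r0)
noncomputable def m12l4_n0 : Net := Net.cons 4 0x4 <|
  Net.cons 2 0x2 <|
  Net.cons 1 0x14 <|
  Net.cons 2 0x31 <|
  Net.cons 4 0x4 <|
  Net.nil
noncomputable def m12l4_n1 : Net := Net.cons 2 0x2 <|
  Net.cons 1 0x11 <|
  Net.cons 2 0x13 <|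
  Net.cons 4 0xa <|
  Net.nil
noncomputable def m12l4_ns : List Net := [m12l4_n0, m12l4_n1, Net.nil, Net.nil, Net.nil, Net.nil]
noncomputable def m12l4_R : List (List ℕ) := [[0, 3, 3, 0], [3, 0, 3, 1]]
noncomputable def m12l4_S0 : List (List ℕ) := []
noncomputable def m12l4_E : Enum := ⟨m12l4_ns, m12l4_R, m12l4_S0, [], 0⟩
theorem m12l4_v : validAll (2 ^ 3) m12l4_ns = true := by decide +kernel
theorem m12l4_p0 : holdsB 3 m12l4_ns m12l4_R = true := by decide +kernel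
theorem m12l4_p : Holds (lp m12l4_ns) m12l4_R := holdsB_sound m12l4_v m12l4_p0
theorem m12l4_f : allL m12l4_E.Sub (fixN m12l4_E.ns m12l4_E.b0) = true := by decide +kernel
theorem m12l4_r0 : m12l4_E.run [2, 1, 6, 5, 10, 9, 14, 13, 2, 1, 8192, 13, 4100, 1, 12292, 5, 4096, 13, 8192, 13, 12288, 1] (1 <<< 0) (List.replicate 5 0) (Enum.done 8 [0, 2]) = true := by decide +kernel
theorem m12l4_fin {G : Type*} [Group G] {γ : ℕ → G} (hR : Holds (ext γ) m12l4_R) {H : Subgroup G}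
    (hS : ∀ u ∈ m12l4_S0, ev (ext γ) u ∈ H) : m12l4_E.Fin γ H 8 [0, 2] :=
  have hy : m12l4_E.Hyp γ H := Enum.hyp_of m12l4_v hR m12l4_p hS m12l4_f
  (Enum.fin_of_done hy (Enum.inv_init 5) m12l4_r0)
theorem m12bd4 {G : Type*} [Group G] {γ : ℕ → G} (hR : Holds (ext γ) m12RR) : Bd (gp γ [0, 2]) 8 :=
  Bd.step (m12l4_fin (hR.subR (by decide +kernel)) (wordsIn_sound γ (L := []) (by decide +kernel))) (Bd.gp_nil γ) (by norm_num)
theorem m12bd3 {G : Type*} [Group G] {γ : ℕ → G} (hR : Holds (ext γ) m12RR) : Bd (gp γ [0, 2, 4]) 72 :=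
  Bd.step (m12l3_fin (hR.subR (by decide +kernel)) (wordsIn_sound γ (L := [0, 2]) (by decide +kernel))) (m12bd4 hR) (by norm_num)
theorem m12bd2 {G : Type*} [Group G] {γ : ℕ → G} (hR : Holds (ext γ) m12RR) : Bd (gp γ [0, 2, 4, 6]) 720 :=
  Bd.step (m12l2_fin (hR.subR (by decide +kernel)) (wordsIn_sound γ (L := [0, 2, 4]) (by decide +kernel))) (m12bd3 hR) (by norm_num)
theorem m12bd1 {G : Type*} [Group G] {γ : ℕ → G} (hR : Holds (ext γ) m12RR) : Bd (gp γ [0, 2, 4, 6, 8]) 7920 :=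
  Bd.step (m12l1_fin (hR.subR (by decide +kernel)) (wordsIn_sound γ (L := [0, 2, 4, 6]) (by decide +kernel))) (m12bd2 hR) (by norm_num)
theorem m12bd0 {G : Type*} [Group G] {γ : ℕ → G} (hR : Holds (ext γ) m12RR) : Bd (gp γ [0, 2, 4, 6, 8, 10]) 95040 :=
  Bd.step (m12l0_fin (hR.subR (by decide +kernel)) (wordsIn_sound γ (L := [0, 2, 4, 6, 8]) (by decide +kernel))) (m12bd1 hR) (by norm_num)

end Cfsg.Agent.Gol
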