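import Cfsg.Agent.Mult.Slices
import Cfsg.Agent.Gol.Cert
import Cfsg.Agent.Gol.M12Pres

set_option autoImplicit false
set_option Elab.async false
set_option maxRecDepth 100000
set_option linter.all false

namespace Cfsg.Agent.Gol
open Cfsg.Agent.CGT

open Cfsg.Agent.Mult

noncomputable def m12u2_D : PC := ⟨2, 6, 2, 20,
  [[0, 0x44, 0x10, 0x40, 0x500, 0x400], [0, 0, 0x110, 0x40, 0x500, 0x400], [0, 0, 0x400, 0x440, 0x500, 0x400], [0, 0, 0, 0, 0x100, 0x400], [0, 0, 0, 0, 0x400, 0x400], [0, 0, 0, 0, 0, 0]],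
  [0xc3, 0x33, 0xf, 0, 0, 0],
  [(6, 0x10, 0x110), (6, 0x40, 0x401), (6, 0x100, 0x410), (6, 0x400, 0x400), (7, 1, 0x404), (7, 0x40, 0x400)], 13, 0x300000105020400000000⟩
noncomputable def m12u2_ds : List (List ℕ) := [[6, 10, 3, 8, 0, 6, 0, 10], [4, 3, 4, 3, 6], [4, 0, 2, 6, 0], [10, 0, 8, 6, 8, 1, 10], [0, 4, 3, 6, 0, 3], [6], [6, 2, 10, 4, 6, 3], [0, 10, 0, 10, 8, 10, 4, 6, 3]]
noncomputable def m12u2_c : Mult.Cert := ⟨17, 17, [[], [], [], [1], [8], [15]],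
  [([15, 16, 35], 1, 0x14c1300000)],
  [[0x20044, 0, 0xf3210, 0x16004, 0x1280, 0x20000], [0, 0x21046, 0, 0x1a004, 0x41501, 0x13000], [0, 0, 0xd2029, 0, 0x12001, 0x80000], [0, 0, 0, 0x12004, 0x53200, 0x10000], [0, 0, 0, 0, 0x53101, 0x40000], [0, 0, 0, 0, 0, 0x12000]]⟩
theorem m12u2_all : allB m12u2_D m12u2_c [.assoc 0x10 0x10 0x10, .assoc 0x100 0x100 0x100, .assoc 0x10 0x10 1, .assoc 0x100 0x40 1, .assoc 4 4 1, .assoc 4 1 1, .assoc 0x40 0x40 0x10, .assoc 0x100 4 4, .assoc 0x100 0x10 0x10, .assoc 0x10 4 4, .assoc 0x40 0x10 4, .assoc 0x10 0x10 4, .assoc 0x10 4 1, .fus 6 [1, 1] [], .fus 6 [2, 2] [3], .fus 6 [2, 1] [1, 2], .fus 6 [0, 0] [3], .fus 7 [5, 5] [], .fus 7 [4, 4] []] 5 m12_ts m12u2_ds [5, 4, 3, 2, 1] [(1, [0x40, 1]), (9, [4]), (11, [0x100, 0x10]), (0, [0x400])] = true := by decide +kernel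
theorem m12u2_pb {G : Type*} [Group G] [Finite G] {φ : G →* Equiv.Perm ℕ} {γ : ℕ → G}
    (M : Model φ γ 5 m12_ns m12_ts) (hB : IsBase φ ⊤ [5, 4, 3, 2, 1]) (hN : Nat.card G = 95040) : PBound G 2 1 :=
  pbound_all M hB hN (by decide +kernel) (by decide +kernel) m12u2_all
noncomputable def m12u3_D : PC := ⟨3, 3, 2, 18,
  [[0, 0x14, 0x10], [0, 0, 0x10], [0, 0, 0]],
  [3, 0, 0],
  [(3, 1, 0x22), (3, 4, 8), (3, 0x10, 0x10)], 9, 0x101000200000002⟩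
noncomputable def m12u3_ds : List (List ℕ) := [[1, 10, 4, 6, 1], [0, 6, 8, 6, 1, 4], [6, 0, 10], [4, 1, 6, 4, 10]]
noncomputable def m12u3_c : Mult.Cert := ⟨17, 16, [[], [], [1]],
  [],
  [[0xa3, 0, 3], [0, 9, 0x1b], [0, 0, 0xa2]]⟩
theorem m12u3_all : allB m12u3_D m12u3_c [.assoc 8 4 1, .fus 3 [2, 1] [1, 2], .fus 3 [1, 1, 1] [], .fus 3 [2, 0] [0, 2], .fus 3 [0, 0, 0] []] 5 m12_ts m12u3_ds [5, 4, 3, 2, 1] [(2, [4]), (0, [0x10]), (1, [1])] = true := by decide +kernel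
theorem m12u3_pb {G : Type*} [Group G] [Finite G] {φ : G →* Equiv.Perm ℕ} {γ : ℕ → G}
    (M : Model φ γ 5 m12_ns m12_ts) (hB : IsBase φ ⊤ [5, 4, 3, 2, 1]) (hN : Nat.card G = 95040) : PBound G 3 0 :=
  pbound_all M hB hN (by decide +kernel) (by decide +kernel) m12u3_all
theorem m12_rels : Holds (ext m12_γ) m12RR :=
  relsB_sound m12_cert.M m12_cert.base (by decide +kernel) (fun _ _ => trivial) (by decide +kernel)

end Cfsg.Agent.Gol
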