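import Cfsg.Agent.Gol.M22PresR

set_option autoImplicit false
set_option Elab.async false
set_option maxRecDepth 100000
set_option linter.all false

namespace Cfsg.Agent.Gol
open Cfsg.Agent.CGT

noncomputable def m22l0_n0 : Net := Net.cons 16 0x1616 <|
  Net.cons 8 0x1a008c <|
  Net.cons 4 0xe000a08 <|
  Net.cons 2 0x20020000 <|
  Net.cons 1 0x40144100 <|
  Net.cons 2 0x10020102 <|
  Net.cons 4 0xe01020a <|
  Net.cons 8 0x1c008c <|
  Net.cons 16 0x1616 <|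
  Net.nil
noncomputable def m22l0_n1 : Net := Net.cons 16 0x100 <|
  Net.cons 8 0x400d0 <|
  Net.cons 4 0x608 <|
  Net.cons 2 0x220 <|
  Net.cons 1 0x5444 <|
  Net.cons 2 0x1020202 <|
  Net.cons 4 0x606 <|
  Net.cons 8 0x400d0 <|
  Net.cons 16 0x100 <|
  Net.nil
noncomputable def m22l0_n2 : Net := Net.cons 16 0xc400 <|
  Net.cons 8 0xc00088 <|
  Net.cons 4 0x40a02 <|
  Net.cons 2 0x20200 <|
  Net.cons 1 0x40110 <|
  Net.cons 2 0x22200 <|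
  Net.cons 4 0xc0a06 <|
  Net.cons 8 0xc400a8 <|
  Net.cons 16 0xc400 <|
  Net.nil
noncomputable def m22l0_n3 : Net := Net.cons 16 0x40 <|
  Net.cons 8 0x8 <|
  Net.cons 4 0x408 <|
  Net.cons 2 0x200000 <|
  Net.cons 1 0x450004 <|
  Net.cons 2 0x230320 <|
  Net.cons 4 0x60408 <|
  Net.cons 8 0x18 <|
  Net.cons 16 0x40 <|
  Net.nil
noncomputable def m22l0_n4 : Net := Net.cons 16 0x4220 <|
  Net.cons 8 0x500094 <|
  Net.cons 4 0x20a0000 <|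
  Net.cons 2 0x20 <|
  Net.cons 1 0x10411014 <|
  Net.cons 2 0x120 <|
  Net.cons 4 0x20a0800 <|
  Net.cons 8 0x500094 <|
  Net.cons 16 0x4220 <|
  Net.nil
noncomputable def m22l0_n5 : Net := Net.cons 8 0x60 <|
  Net.cons 4 0x40808 <|
  Net.cons 2 0x200000 <|
  Net.cons 1 0x400405 <|
  Net.cons 2 0x200010 <|
  Net.cons 4 0x40b08 <|
  Net.cons 8 0x68 <|
  Net.nil
noncomputable def m22l0_ns : List Net := [m22l0_n0, m22l0_n1, m22l0_n2, m22l0_n3, m22l0_n4, m22l0_n5]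
noncomputable def m22l0_R : List (List ℕ) := [[2, 2], [4, 4], [6, 6], [8, 8], [10, 10], [0, 0, 0], [4, 2, 4, 2], [2, 0, 2, 0, 2, 0], [4, 0, 4, 0, 4, 0], [4, 0, 2, 1, 4, 0, 2, 1], [6, 4, 6, 4, 6, 4], [2, 6, 1, 6, 0, 6, 4], [4, 0, 6, 0, 2, 4, 0, 6, 0, 2], [6, 0, 4, 6, 0, 4, 6, 0, 4], [4, 2, 8, 4, 6, 8, 2, 1, 6], [1, 2, 8, 4, 8, 1, 8, 4, 6, 4], [10, 6, 10, 6], [0, 2, 10, 0, 4, 10, 1, 6], [2, 10, 2, 1, 10, 0, 10, 1], [1, 4, 0, 10, 8, 10, 1, 4, 0, 8]]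
noncomputable def m22l0_S0 : List (List ℕ) := [[0], [2], [4], [6], [8]]
noncomputable def m22l0_E : Enum := ⟨m22l0_ns, m22l0_R, m22l0_S0, [], 0⟩
theorem m22l0_v : validAll (2 ^ 5) m22l0_ns = true := by decide +kernel
theorem m22l0_p0 : holdsB 5 m22l0_ns m22l0_R = true := by decide +kernel
theorem m22l0_p : Holds (lp m22l0_ns) m22l0_R := holdsB_sound m22l0_v m22l0_p0
theorem m22l0_f : allL m22l0_E.Sub (fixN m22l0_E.ns m22l0_E.b0) = true := by decide +kernel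
theorem m22l0_r0 : m22l0_E.run [42, 16, 2, 1, 6, 5, 10, 0, 18, 4, 26, 8, 34, 12, 42, 16, 2, 1, 20, 1, 4120, 3, 1, 7, 11, 15, 19, 4160, 68, 1, 16452, 4, 4168, 16, 16456, 16, 20552, 1, 28744, 5, 24, 4128, 1, 4136, 44, 4140, 8, 64, 8244, 4, 12356, 1, 28, 0, 8236, 5, 8260, 16452, 72, 40, 20548, 64, 4168, 16460, 36940, 8248, 12, 20536, 12, 24632, 0, 24, 4124, 1, 4128, 1, 4140, 16440, 8, 64, 4136, 8236, 5, 20, 1, 32, 4152, 8248, 12, 28, 12348, 4, 16444, 20540, 5, 32828, 76, 5, 4172, 4, 12364, 16, 20, 1, 4160, 28, 0, 4140, 8, 8260, 8248, 16440, 20536, 20540, 5, 12364, 44] (1 <<< 0) (List.replicate 12 0) (Enum.done 22 [0, 2, 4, 6, 8, 10]) = true := by decide +kernel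
theorem m22l0_fin {G : Type*} [Group G] {γ : ℕ → G} (hR : Holds (ext γ) m22l0_R) {H : Subgroup G}
    (hS : ∀ u ∈ m22l0_S0, ev (ext γ) u ∈ H) : m22l0_E.Fin γ H 22 [0, 2, 4, 6, 8, 10] :=
  have hy : m22l0_E.Hyp γ H := Enum.hyp_of m22l0_v hR m22l0_p hS m22l0_f
  (Enum.fin_of_done hy (Enum.inv_init 12) m22l0_r0)
noncomputable def m22l1_n0 : Net := Net.cons 16 0x5d00 <|
  Net.cons 8 0x60090 <|
  Net.cons 4 0x400000c <|
  Net.cons 2 0x20 <|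
  Net.cons 1 0x1041044 <|
  Net.cons 2 0x12000020 <|
  Net.cons 4 0x20e <|
  Net.cons 8 0x60010 <|
  Net.cons 16 0x5d08 <|
  Net.nil
noncomputable def m22l1_n1 : Net := Net.cons 16 0xd000 <|
  Net.cons 8 0xd00090 <|
  Net.cons 4 0xc00 <|
  Net.cons 2 0x1202 <|
  Net.cons 4 0xd0c04 <|
  Net.cons 8 0xd000b0 <|
  Net.cons 16 0xd000 <|
  Net.nil
noncomputable def m22l1_n2 : Net := Net.cons 16 0x2000 <|
  Net.cons 8 0x200048 <|
  Net.cons 4 0x40206 <|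
  Net.cons 2 0x220002 <|
  Net.cons 1 0x415454 <|
  Net.cons 2 0x223002 <|
  Net.cons 4 0x40206 <|
  Net.cons 8 0x200048 <|
  Net.cons 16 0x2000 <|
  Net.nil
noncomputable def m22l1_n3 : Net := Net.cons 16 0xe240 <|
  Net.cons 8 0xa20004 <|
  Net.cons 4 0x40a0002 <|
  Net.cons 2 0x2000000 <|
  Net.cons 1 0x4140010 <|
  Net.cons 2 0x2330100 <|
  Net.cons 4 0x4050002 <|
  Net.cons 8 0xa2000c <|
  Net.cons 16 0xe240 <|
  Net.nil
noncomputable def m22l1_n4 : Net := Net.cons 16 0x2000 <|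
  Net.cons 8 0x20000c <|
  Net.cons 2 0x2000 <|
  Net.cons 1 0x141511 <|
  Net.cons 2 0x2300 <|
  Net.cons 4 0x908 <|
  Net.cons 8 0x20000c <|
  Net.cons 16 0x2000 <|
  Net.nil
noncomputable def m22l1_ns : List Net := [m22l1_n0, m22l1_n1, m22l1_n2, m22l1_n3, m22l1_n4, Net.nil]
noncomputable def m22l1_R : List (List ℕ) := [[2, 2], [4, 4], [6, 6], [8, 8], [0, 0, 0], [4, 2, 4, 2], [2, 0, 2, 0, 2, 0], [4, 0, 4, 0, 4, 0], [4, 0, 2, 1, 4, 0, 2, 1], [6, 4, 6, 4, 6, 4], [2, 6, 1, 6, 0, 6, 4], [4, 0, 6, 0, 2, 4, 0, 6, 0, 2], [6, 0, 4, 6, 0, 4, 6, 0, 4], [4, 2, 8, 4, 6, 8, 2, 1, 6], [1, 2, 8, 4, 8, 1, 8, 4, 6, 4]]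
noncomputable def m22l1_S0 : List (List ℕ) := [[0], [2], [4], [6]]
noncomputable def m22l1_E : Enum := ⟨m22l1_ns, m22l1_R, m22l1_S0, [], 0⟩
theorem m22l1_v : validAll (2 ^ 5) m22l1_ns = true := by decide +kernel
theorem m22l1_p0 : holdsB 5 m22l1_ns m22l1_R = true := by decide +kernel
theorem m22l1_p : Holds (lp m22l1_ns) m22l1_R := holdsB_sound m22l1_v m22l1_p0
theorem m22l1_f : allL m22l1_E.Sub (fixN m22l1_E.ns m22l1_E.b0) = true := by decide +kernel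
theorem m22l1_r0 : m22l1_E.run [34, 12, 2, 1, 6, 5, 10, 0, 18, 4, 26, 8, 34, 12, 16, 1, 4116, 3, 1, 7, 11, 15, 16436, 8, 8232, 5, 16440, 12, 56, 5, 4120, 1, 4124, 1, 32820, 4132, 40, 8232, 5, 16, 1, 8232, 5, 16, 1, 4136, 8, 4132, 4124, 1, 4144, 1, 8240, 28724, 5, 36, 40, 24, 8244, 20532, 12344, 4, 20536, 5, 24632, 12, 16, 1, 4124, 1, 24, 4116, 4136, 16436, 8, 20532, 4132, 40, 8232, 5, 8248] (1 <<< 0) (List.replicate 10 0) (Enum.done 21 [0, 2, 4, 6, 8]) = true := by decide +kernel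
theorem m22l1_fin {G : Type*} [Group G] {γ : ℕ → G} (hR : Holds (ext γ) m22l1_R) {H : Subgroup G}
    (hS : ∀ u ∈ m22l1_S0, ev (ext γ) u ∈ H) : m22l1_E.Fin γ H 21 [0, 2, 4, 6, 8] :=
  have hy : m22l1_E.Hyp γ H := Enum.hyp_of m22l1_v hR m22l1_p hS m22l1_f
  (Enum.fin_of_done hy (Enum.inv_init 10) m22l1_r0)
noncomputable def m22l2_n0 : Net := Net.cons 16 0x6890 <|
  Net.cons 8 0x740048 <|
  Net.cons 4 0xc080c04 <|
  Net.cons 2 0x20220 <|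
  Net.cons 1 0x40410140 <|
  Net.cons 2 0x10201220 <|
  Net.cons 4 0xc020006 <|
  Net.cons 8 0x740048 <|
  Net.cons 16 0x6890 <|
  Net.nil
noncomputable def m22l2_n1 : Net := Net.cons 16 0x900 <|
  Net.cons 8 0x800f4 <|
  Net.cons 4 0xa04 <|
  Net.cons 1 0x41050 <|
  Net.cons 2 0x232 <|
  Net.cons 4 0xe04 <|
  Net.cons 8 0x900f4 <|
  Net.cons 16 0x900 <|
  Net.nil
noncomputable def m22l2_n2 : Net := Net.cons 16 0x3000 <|
  Net.cons 8 0x300012 <|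
  Net.cons 4 0x40e0c <|
  Net.cons 2 0x200220 <|
  Net.cons 1 0x405144 <|
  Net.cons 2 0x200202 <|
  Net.cons 4 0x50e02 <|
  Net.cons 8 0x300012 <|
  Net.cons 16 0x3000 <|
  Net.nil
noncomputable def m22l2_n3 : Net := Net.cons 16 0x1100 <|
  Net.cons 8 0x1200a8 <|
  Net.cons 4 0x8 <|
  Net.cons 1 0x1044441 <|
  Net.cons 4 0x10208 <|
  Net.cons 8 0x1200a8 <|
  Net.cons 16 0x1100 <|
  Net.nil
noncomputable def m22l2_ns : List Net := [m22l2_n0, m22l2_n1, m22l2_n2, m22l2_n3, Net.nil, Net.nil]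
noncomputable def m22l2_R : List (List ℕ) := [[2, 2], [4, 4], [6, 6], [0, 0, 0], [4, 2, 4, 2], [2, 0, 2, 0, 2, 0], [4, 0, 4, 0, 4, 0], [4, 0, 2, 1, 4, 0, 2, 1], [6, 4, 6, 4, 6, 4], [2, 6, 1, 6, 0, 6, 4], [4, 0, 6, 0, 2, 4, 0, 6, 0, 2], [6, 0, 4, 6, 0, 4, 6, 0, 4]]
noncomputable def m22l2_S0 : List (List ℕ) := [[0], [2], [4]]
noncomputable def m22l2_E : Enum := ⟨m22l2_ns, m22l2_R, m22l2_S0, [], 0⟩
theorem m22l2_v : validAll (2 ^ 5) m22l2_ns = true := by decide +kernel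
theorem m22l2_p0 : holdsB 5 m22l2_ns m22l2_R = true := by decide +kernel
theorem m22l2_p : Holds (lp m22l2_ns) m22l2_R := holdsB_sound m22l2_v m22l2_p0
theorem m22l2_f : allL m22l2_E.Sub (fixN m22l2_E.ns m22l2_E.b0) = true := by decide +kernel
theorem m22l2_r0 : m22l2_E.run [26, 8, 2, 1, 6, 5, 10, 0, 18, 4, 26, 8, 2, 1, 6, 5, 12, 1, 4112, 20, 0, 3, 1, 7, 11, 32, 4132, 8, 12324, 40, 4, 16, 24, 4, 4128, 16, 4120, 1, 12324, 4140, 1, 12, 1, 20, 0, 24, 4, 4120, 1, 4112, 12324, 20516, 8, 4132, 4128, 36] (1 <<< 0) (List.replicate 8 0) (Enum.done 20 [0, 2, 4, 6]) = true := by decide +kernel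
theorem m22l2_fin {G : Type*} [Group G] {γ : ℕ → G} (hR : Holds (ext γ) m22l2_R) {H : Subgroup G}
    (hS : ∀ u ∈ m22l2_S0, ev (ext γ) u ∈ H) : m22l2_E.Fin γ H 20 [0, 2, 4, 6] :=
  have hy : m22l2_E.Hyp γ H := Enum.hyp_of m22l2_v hR m22l2_p hS m22l2_f
  (Enum.fin_of_done hy (Enum.inv_init 8) m22l2_r0)
noncomputable def m22l3_n0 : Net := Net.cons 8 0x9a <|
  Net.cons 4 0x4 <|
  Net.cons 2 0x200 <|
  Net.cons 1 0x1454 <|
  Net.cons 2 0x30 <|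
  Net.cons 4 0x506 <|
  Net.cons 8 0x52 <|
  Net.nil
noncomputable def m22l3_n1 : Net := Net.cons 8 0x68 <|
  Net.cons 4 0x2 <|
  Net.cons 2 0x2020 <|
  Net.cons 1 0x4441 <|
  Net.cons 2 0x231 <|
  Net.cons 4 0xf0d <|
  Net.cons 8 0x68 <|
  Net.nil
noncomputable def m22l3_n2 : Net := Net.cons 8 0x5c <|
  Net.cons 4 0xe <|
  Net.cons 1 0x5050 <|
  Net.cons 2 0x101 <|
  Net.cons 4 0xe00 <|
  Net.cons 8 0xa3 <|
  Net.nil
noncomputable def m22l3_ns : List Net := [m22l3_n0, m22l3_n1, m22l3_n2, Net.nil, Net.nil, Net.nil]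
noncomputable def m22l3_R : List (List ℕ) := [[2, 2], [4, 4], [0, 0, 0], [4, 2, 4, 2], [2, 0, 2, 0, 2, 0], [4, 0, 4, 0, 4, 0], [4, 0, 2, 1, 4, 0, 2, 1]]
noncomputable def m22l3_S0 : List (List ℕ) := [[0]]
noncomputable def m22l3_E : Enum := ⟨m22l3_ns, m22l3_R, m22l3_S0, [], 0⟩
theorem m22l3_v : validAll (2 ^ 4) m22l3_ns = true := by decide +kernel
theorem m22l3_p0 : holdsB 4 m22l3_ns m22l3_R = true := by decide +kernel
theorem m22l3_p : Holds (lp m22l3_ns) m22l3_R := holdsB_sound m22l3_v m22l3_p0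
theorem m22l3_f : allL m22l3_E.Sub (fixN m22l3_E.ns m22l3_E.b0) = true := by decide +kernel
theorem m22l3_r0 : m22l3_E.run [10, 0, 18, 4, 2, 1, 6, 5, 10, 0, 18, 4, 8, 1, 4108, 4112, 1, 3, 1, 16, 0, 20, 4, 12, 4108, 24, 4120, 1, 8, 1, 12] (1 <<< 0) (List.replicate 6 0) (Enum.done 16 [0, 2, 4]) = true := by decide +kernel
theorem m22l3_fin {G : Type*} [Group G] {γ : ℕ → G} (hR : Holds (ext γ) m22l3_R) {H : Subgroup G}
    (hS : ∀ u ∈ m22l3_S0, ev (ext γ) u ∈ H) : m22l3_E.Fin γ H 16 [0, 2, 4] :=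
  have hy : m22l3_E.Hyp γ H := Enum.hyp_of m22l3_v hR m22l3_p hS m22l3_f
  (Enum.fin_of_done hy (Enum.inv_init 6) m22l3_r0)
noncomputable def m22l4_n0 : Net := Net.cons 2 0x2 <|
  Net.cons 1 0x4 <|
  Net.cons 2 0x3 <|
  Net.nil
noncomputable def m22l4_ns : List Net := [m22l4_n0, Net.nil, Net.nil, Net.nil, Net.nil, Net.nil]
noncomputable def m22l4_R : List (List ℕ) := [[0, 0, 0]]
noncomputable def m22l4_S0 : List (List ℕ) := []
noncomputable def m22l4_E : Enum := ⟨m22l4_ns, m22l4_R, m22l4_S0, [], 0⟩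
theorem m22l4_v : validAll (2 ^ 3) m22l4_ns = true := by decide +kernel
theorem m22l4_p0 : holdsB 3 m22l4_ns m22l4_R = true := by decide +kernel
theorem m22l4_p : Holds (lp m22l4_ns) m22l4_R := holdsB_sound m22l4_v m22l4_p0
theorem m22l4_f : allL m22l4_E.Sub (fixN m22l4_E.ns m22l4_E.b0) = true := by decide +kernel
theorem m22l4_r0 : m22l4_E.run [2, 1, 6, 5, 0, 1] (1 <<< 0) (List.replicate 3 0) (Enum.done 3 [0]) = true := by decide +kernel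
theorem m22l4_fin {G : Type*} [Group G] {γ : ℕ → G} (hR : Holds (ext γ) m22l4_R) {H : Subgroup G}
    (hS : ∀ u ∈ m22l4_S0, ev (ext γ) u ∈ H) : m22l4_E.Fin γ H 3 [0] :=
  have hy : m22l4_E.Hyp γ H := Enum.hyp_of m22l4_v hR m22l4_p hS m22l4_f
  (Enum.fin_of_done hy (Enum.inv_init 3) m22l4_r0)
theorem m22bd4 {G : Type*} [Group G] {γ : ℕ → G} (hR : Holds (ext γ) m22RR) : Bd (gp γ [0]) 3 :=
  Bd.step (m22l4_fin (hR.subR (by decide +kernel)) (wordsIn_sound γ (L := []) (by decide +kernel))) (Bd.gp_nil γ) (by norm_num)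
theorem m22bd3 {G : Type*} [Group G] {γ : ℕ → G} (hR : Holds (ext γ) m22RR) : Bd (gp γ [0, 2, 4]) 48 :=
  Bd.step (m22l3_fin (hR.subR (by decide +kernel)) (wordsIn_sound γ (L := [0]) (by decide +kernel))) (m22bd4 hR) (by norm_num)
theorem m22bd2 {G : Type*} [Group G] {γ : ℕ → G} (hR : Holds (ext γ) m22RR) : Bd (gp γ [0, 2, 4, 6]) 960 :=
  Bd.step (m22l2_fin (hR.subR (by decide +kernel)) (wordsIn_sound γ (L := [0, 2, 4]) (by decide +kernel))) (m22bd3 hR) (by norm_num)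
theorem m22bd1 {G : Type*} [Group G] {γ : ℕ → G} (hR : Holds (ext γ) m22RR) : Bd (gp γ [0, 2, 4, 6, 8]) 20160 :=
  Bd.step (m22l1_fin (hR.subR (by decide +kernel)) (wordsIn_sound γ (L := [0, 2, 4, 6]) (by decide +kernel))) (m22bd2 hR) (by norm_num)
theorem m22bd0 {G : Type*} [Group G] {γ : ℕ → G} (hR : Holds (ext γ) m22RR) : Bd (gp γ [0, 2, 4, 6, 8, 10]) 443520 :=
  Bd.step (m22l0_fin (hR.subR (by decide +kernel)) (wordsIn_sound γ (L := [0, 2, 4, 6, 8]) (by decide +kernel))) (m22bd1 hR) (by norm_num)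

end Cfsg.Agent.Gol
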