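import Cfsg.Agent.Mult.Slices
import Cfsg.Agent.Gol.Cert
import Cfsg.Agent.Gol.M22Pres

set_option autoImplicit false
set_option Elab.async false
set_option maxRecDepth 100000
set_option linter.all false

namespace Cfsg.Agent.Gol
open Cfsg.Agent.CGT

open Cfsg.Agent.Mult

noncomputable def m22u2_D : PC := ⟨2, 7, 2, 24,
  [[0x1540, 0x44, 0x110, 0x440, 0x1500, 0x1400, 0x1000], [0, 0x1100, 0x1110, 0x440, 0x100, 0x1400, 0x1000], [0, 0, 0, 0x1440, 0x100, 0x400, 0x1000], [0, 0, 0, 0x1000, 0x1100, 0x400, 0x1000], [0, 0, 0, 0, 0, 0x400, 0x1000], [0, 0, 0, 0, 0, 0, 0x1000], [0, 0, 0, 0, 0, 0, 0]],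
  [0x3ff, 0xcf, 3, 3, 0, 0, 0],
  [(7, 0x14, 0x1500), (7, 0x400, 0x140), (8, 5, 0x1455), (8, 0x10, 0x500), (8, 0x40, 0x105), (8, 0x1000, 0x1400), (9, 0x100, 0x1000), (9, 0x400, 0x10), (9, 0x1000, 0x1100)], 19, 0x40000050302000000000100000000060000⟩
noncomputable def m22u2_ds : List (List ℕ) := [[1, 10, 8, 4, 2, 10, 4, 6, 0], [4, 6, 4, 1, 8, 0], [8, 2, 0, 8, 1, 2, 8], [4, 1, 8, 0, 4, 10, 4, 2], [4, 10, 4, 1, 6, 8, 6, 0], [6, 4, 0, 10, 2, 0, 2, 8, 10], [0, 2, 6, 8, 6, 0, 10, 0], [2, 8, 4, 0, 6, 4, 10, 1], [2, 8, 2, 6, 10, 2, 8, 10, 2], [10, 1, 2, 0, 8, 10, 1, 4]]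
noncomputable def m22u2_c : Mult.Cert := ⟨36, 20, [[], [], [], [1], [2], [3], [5]],
  [([2, 9, 25, 32, 48], 2, 0x79a6db0000000000004)],
  [[0xc43b3fc, 0, 0, 0, 0xefd000, 0, 0x6dc000], [0, 0x63e265, 0x37e205, 0x448b384, 0x86d0000, 0x449ea00, 0x6d0000], [0, 0, 0xc20024, 0xf3f400, 0xb00004, 0xa2000, 0x340000], [0, 0, 0, 0x59e284, 0x37e200, 0x834000, 0x4000000], [0, 0, 0, 0, 0x900004, 0xbc0000, 0x800000], [0, 0, 0, 0, 0, 0xee0000, 0x400000], [0, 0, 0, 0, 0, 0, 0x900000]]⟩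
theorem m22u2_all : allB m22u2_D m22u2_c [.assoc 4 4 4, .assoc 0x40 0x40 0x40, .assoc 0x400 0x100 0x100, .assoc 0x400 0x400 0x40, .assoc 0x400 0x100 4, .assoc 0x400 0x40 0x40, .assoc 0x10 0x10 1, .assoc 0x100 0x100 0x40, .assoc 0x400 0x10 1, .assoc 0x10 0x10 4, .assoc 0x100 0x100 1, .assoc 0x400 4 4, .assoc 0x40 0x40 1, .assoc 0x40 0x40 4, .assoc 0x40 0x10 0x10, .assoc 1 1 1, .assoc 0x40 4 4, .assoc 0x10 1 1, .assoc 0x40 0x10 1, .assoc 4 4 1, .fus 7 [1, 1] [], .fus 7 [0, 0] [], .fus 8 [3, 3] [], .fus 8 [3, 2] [2, 3, 5], .fus 8 [4, 4] [5], .fus 9 [6, 6] [], .fus 9 [8, 7] [7, 8]] 5 m22_ts m22u2_ds [6, 5, 4, 3, 2] [(11, [4]), (6, [0x100, 0x10]), (2, [0x1000, 0x400, 0x140, 0x15])] = true := by decide +kernel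
theorem m22u2_pb {G : Type*} [Group G] [Finite G] {φ : G →* Equiv.Perm ℕ} {γ : ℕ → G}
    (M : Model φ γ 5 m22_ns m22_ts) (hB : IsBase φ ⊤ [6, 5, 4, 3, 2]) (hN : Nat.card G = 443520) : PBound G 2 2 :=
  pbound_all M hB hN (by decide +kernel) (by decide +kernel) m22u2_all
noncomputable def m22u3_D : PC := ⟨3, 2, 2, 21,
  [[0, 4], [0, 0]],
  [0, 0],
  [(2, 1, 5), (2, 4, 9)], 5, 0x10001⟩
noncomputable def m22u3_ds : List (List ℕ) := [[8, 0, 2, 6, 2, 6, 8], [0, 2, 6, 0, 4, 1, 10], [4, 10, 1, 2, 8, 0, 2, 4]]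
noncomputable def m22u3_c : Mult.Cert := ⟨14, 17, [[], []],
  [([1], 1, 0x288)],
  [[0x15, 2], [0, 9]]⟩
theorem m22u3_all : allB m22u3_D m22u3_c [.assoc 8 4 1, .fus 2 [0, 0, 0] [], .fus 2 [1, 1, 1] []] 5 m22_ts m22u3_ds [6, 5, 4, 3, 2] [(2, [4]), (3, [1])] = true := by decide +kernel
theorem m22u3_pb {G : Type*} [Group G] [Finite G] {φ : G →* Equiv.Perm ℕ} {γ : ℕ → G}
    (M : Model φ γ 5 m22_ns m22_ts) (hB : IsBase φ ⊤ [6, 5, 4, 3, 2]) (hN : Nat.card G = 443520) : PBound G 3 1 :=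
  pbound_all M hB hN (by decide +kernel) (by decide +kernel) m22u3_all
theorem m22_rels : Holds (ext m22_γ) m22RR :=
  relsB_sound m22_cert.M m22_cert.base (by decide +kernel) (fun _ _ => trivial) (by decide +kernel)

end Cfsg.Agent.Gol
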