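import Cfsg.Agent.Gol.Basic

set_option autoImplicit false
set_option maxRecDepth 100000
set_option linter.style.haveILetI false

/-! Permutations preserving the Golay code: membership tests, order bounds, certificates. -/

namespace Cfsg.Agent.Gol

open Cfsg Cfsg.Agent.CGT Equiv
open scoped Pointwise symmDiff

/-! ### General tools -/

/-- A finite set with a bound for its size. -/
def BdS {α : Type*} (Y : Set α) (n : ℕ) : Prop := Y.Finite ∧ Y.ncard ≤ n

theorem BdS.mono {α : Type*} {Y Z : Set α} {n : ℕ} (h : BdS Y n) (hZ : Z ⊆ Y) : BdS Z n :=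
  ⟨h.1.subset hZ, (Set.ncard_le_ncard hZ h.1).trans h.2⟩

theorem BdS.le {α : Type*} {Y : Set α} {n m : ℕ} (h : BdS Y n) (hm : n ≤ m) : BdS Y m :=
  ⟨h.1, h.2.trans hm⟩

theorem BdS.union {α : Type*} {Y Z : Set α} {n m : ℕ} (h : BdS Y n) (h' : BdS Z m) :
    BdS (Y ∪ Z) (n + m) :=
  ⟨h.1.union h'.1, (Set.ncard_union_le _ _).trans (Nat.add_le_add h.2 h'.2)⟩

theorem BdS.empty {α : Type*} : BdS (∅ : Set α) 0 := ⟨Set.finite_empty, by simp⟩

theorem BdS.singleton {α : Type*} (a : α) : BdS ({a} : Set α) 1 := ⟨Set.finite_singleton a, by simp⟩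

theorem BdS.finset {α : Type*} (S : Finset α) : BdS (S : Set α) S.card := ⟨S.finite_toSet, by simp⟩

theorem BdS.of_injOn {α β : Type*} {Y : Set α} {Z : Set β} {n : ℕ} (h : BdS Z n) (f : α → β)
    (hf : ∀ a ∈ Y, f a ∈ Z) (hi : Set.InjOn f Y) : BdS Y n :=
  ⟨Set.Finite.of_injOn hf hi h.1, (Set.ncard_le_ncard_of_injOn f hf hi h.1).trans h.2⟩

theorem BdS.prod {α β : Type*} {Y : Set α} {Z : Set β} {n m : ℕ} (h : BdS Y n) (h' : BdS Z m) :
    BdS (Y ×ˢ Z) (n * m) :=
  ⟨h.1.prod h'.1, by rw [Set.ncard_prod]; exact Nat.mul_le_mul h.2 h'.2⟩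

theorem bd_iff {G : Type*} [Group G] {K : Subgroup G} {n : ℕ} : Bd K n ↔ BdS (K : Set G) n := by
  rw [Bd, BdS, ← Set.finite_coe_iff, ← Nat.card_coe_set_eq]; rfl

/-- Orbit and stabiliser, as a bound. -/
theorem bd_orbit {G X : Type*} [Group G] [MulAction G X] {K : Subgroup G} (w : X) {Y : Set X}
    {n m : ℕ} (hY : BdS Y n) (h : ∀ g ∈ K, g • w ∈ Y) (hb : Bd (K ⊓ MulAction.stabilizer G w) m) :
    Bd K (n * m) := by
  have h1 : MulAction.stabilizer K w = (K ⊓ MulAction.stabilizer G w).subgroupOf K := by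
    ext ⟨x, hx⟩
    simp [Subgroup.mem_subgroupOf]
  have e := (Subgroup.subgroupOfEquivOfLe
    (inf_le_left : K ⊓ MulAction.stabilizer G w ≤ K)).toEquiv
  have h2 : BdS (MulAction.orbit K w) n := hY.mono (by rintro _ ⟨⟨g, hg⟩, rfl⟩; exact h g hg)
  haveI := hb.1
  haveI : Finite (MulAction.stabilizer K w) := h1 ▸ Finite.of_equiv _ e.symm
  haveI : Finite (MulAction.orbit K w) := h2.1
  have e2 := MulAction.orbitProdStabilizerEquivGroup K w
  refine ⟨Finite.of_equiv _ e2, ?_⟩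
  rw [← Nat.card_congr e2, Nat.card_prod, h1, Nat.card_congr e, Nat.card_coe_set_eq]
  exact Nat.mul_le_mul h2.2 hb.2

/-- The certificate when generation is not known in advance. -/
theorem cert_of_bound {G : Type*} [Group G] {φ : G →* Perm ℕ} {γ : ℕ → G} {k : ℕ} {ns : List Net}
    {ts : List Tab} {L : List ℕ} {ls : List Level} (M : Model φ γ k ns ts)
    (hs : ChainSound φ (gp γ L) k [] ls) {m : ℕ} (hb : Finite G ∧ Nat.card G ≤ m)
    (e : Nat.ble m (chainCard ls) = true) : Cert φ γ k ns ts L ls := by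
  haveI := hb.1
  refine Cert.of_bound M ?_ hs hb e
  have h1 := hs.le_card
  rw [St_nil] at h1
  exact Subgroup.eq_top_of_le_card _ (hb.2.trans ((Nat.le_of_ble_eq_true e).trans h1))

/-! ### The group `M24` -/

theorem mem_smul {σ : Perm GolayPt} {S : Finset GolayPt} {p : GolayPt} :
    p ∈ σ • S ↔ σ⁻¹ p ∈ S := Finset.inv_smul_mem_iff.symm

theorem mem_inv_smul {σ : Perm GolayPt} {S : Finset GolayPt} {p : GolayPt} :
    p ∈ σ⁻¹ • S ↔ σ p ∈ S := by rw [mem_smul, inv_inv]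

theorem IsC.smul {σ : Perm GolayPt} (hσ : σ ∈ M24) {S : Finset GolayPt} (h : IsC S) :
    IsC (σ • S) := by
  have h1 : σ • supports (golayCode : Set (GolayPt → ZMod 2)) = _ := hσ
  rw [IsC, ← h1]
  exact Set.smul_mem_smul_set h

theorem mem_M24 {σ : Perm GolayPt} (h : ∀ S, IsC S → IsC (σ • S)) : σ ∈ M24 := by
  rw [MulAction.mem_stabilizer_set_iff_smul_set_subset (Set.toFinite _)]
  rintro _ ⟨S, hS, rfl⟩
  exact h S hS

theorem support_comp (σ : Perm GolayPt) (w : GolayPt → ZMod 2) :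
    support₂ (w ∘ σ) = σ⁻¹ • support₂ w := by
  ext p
  rw [mem_inv_smul]
  simp [support₂]

theorem mem_M24_of_bas {σ : Perm GolayPt} (h : ∀ j < 12, IsC (σ⁻¹ • fs (nth 0 bas j))) :
    σ ∈ M24 := by
  rw [← inv_mem_iff]
  refine mem_M24 ?_
  rintro _ ⟨w, hw, rfl⟩
  rw [← support_comp, isC_support, mem_sys hw]
  have : (∑ i ∈ Finset.range 12, w (pt i) • wd (nth 0 bas i)) ∘ σ =
      ∑ i ∈ Finset.range 12, w (pt i) • (wd (nth 0 bas i) ∘ σ) := by
    funext p; simp [Finset.sum_apply]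
  rw [this]
  refine Submodule.sum_mem _ fun i hi => Submodule.smul_mem _ _ ?_
  rw [← isC_support, support_comp, support_wd]
  exact h i (Finset.mem_range.1 hi)

/-- The elements of `M24` preserving the sets of a list. -/
def KM (Ms : List ℕ) : Subgroup (Perm GolayPt) where
  carrier := {σ | σ ∈ M24 ∧ ∀ m ∈ Ms, σ • fs m = fs m}
  one_mem' := ⟨M24.one_mem, fun _ _ => one_smul _ _⟩
  mul_mem' := fun {x y} hx hy => ⟨M24.mul_mem hx.1 hy.1, fun m hm => by
    rw [mul_smul, hy.2 m hm, hx.2 m hm]⟩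
  inv_mem' := fun {x} hx => ⟨M24.inv_mem hx.1, fun m hm => by rw [inv_smul_eq_iff, hx.2 m hm]⟩

theorem mem_KM {Ms : List ℕ} {σ : Perm GolayPt} :
    σ ∈ KM Ms ↔ σ ∈ M24 ∧ ∀ m ∈ Ms, σ • fs m = fs m := Iff.rfl

theorem mem_KM_cons {m : ℕ} {Ms : List ℕ} {σ : Perm GolayPt} :
    σ ∈ KM (m :: Ms) ↔ σ ∈ KM Ms ∧ σ • fs m = fs m := by
  simp only [mem_KM, List.forall_mem_cons]; tauto

theorem smul_two_pow {σ : Perm GolayPt} {i : ℕ} (hi : i < 24) :
    σ • fs (2 ^ i) = fs (2 ^ i) ↔ σ (pt i) = pt i := by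
  rw [fs_two_pow hi, Finset.smul_finset_singleton, Finset.singleton_inj]; rfl

theorem M24_eq : M24 = KM [] := by ext σ; simp [mem_KM]

theorem M23_eq : Spor.M23 = KM [1] := by
  ext σ
  rw [mem_KM_cons, ← M24_eq, show (1 : ℕ) = 2 ^ 0 from rfl, smul_two_pow (by norm_num)]
  rfl

theorem M22_eq : Spor.M22 = KM [2, 1] := by
  ext σ
  rw [mem_KM_cons, ← M23_eq, show (2 : ℕ) = 2 ^ 1 from rfl, smul_two_pow (by norm_num), pt_one]
  rfl

theorem dodecad_eq : Spor.squareDodecad = fs 681662 := by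
  rw [Spor.squareDodecad, qr_eq, support_wd]; rfl

theorem M12_eq : Spor.M12 = KM [681662] := by
  ext σ
  rw [mem_KM_cons, ← M24_eq, ← dodecad_eq]
  rfl

theorem M11_eq : Spor.M11 = KM [2, 681662] := by
  ext σ
  rw [mem_KM_cons, ← M12_eq, show (2 : ℕ) = 2 ^ 1 from rfl, smul_two_pow (by norm_num), pt_one]
  rfl

/-! ### Bounds for the orders -/

/-- The points which are not separated from `b` by the sets. -/
noncomputable def cell (Ms : List ℕ) (b : ℕ) : ℕ :=
  List.rec 16777215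
    (fun m _ ih => Nat.land ih (Bool.rec (Nat.xor 16777215 m) m (Nat.testBit m b))) Ms

theorem cell_lt (Ms : List ℕ) (b : ℕ) : cell Ms b < 2 ^ 24 := by
  induction Ms with
  | nil => show 16777215 < 2 ^ 24; norm_num
  | cons m Ms ih => exact lt_of_le_of_lt Nat.and_le_left ih

theorem mem_cell {Ms : List ℕ} {σ : Perm GolayPt} (h : σ ∈ KM Ms) (p : GolayPt) :
    σ p ∈ fs (cell Ms (ix p)) := by
  induction Ms with
  | nil => exact fs_all ▸ Finset.mem_univ _
  | cons m Ms ih =>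
    rw [mem_KM_cons] at h
    have h1 : σ p ∈ fs m ↔ p ∈ fs m := by
      conv_lhs => rw [← h.2]
      exact Finset.smul_mem_smul_finset_iff σ
    show σ p ∈ fs (cell Ms (ix p) &&&
      Bool.rec (motive := fun _ => ℕ) (16777215 ^^^ m) m (m.testBit (ix p)))
    rw [fs_land, Finset.mem_inter]
    refine ⟨ih h.1, ?_⟩
    cases hb : m.testBit (ix p)
    · show σ p ∈ fs (16777215 ^^^ m)
      rw [fs_xor, fs_all, Finset.mem_symmDiff, h1, mem_fs, hb]
      simp
    · exact h1.2 (mem_fs.2 hb)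

/-- The octad is determined by its intersection numbers. -/
noncomputable def uniqO (Ms : List ℕ) (O : ℕ) : Bool :=
  (inC O && Nat.beq (popc 2 O) 8) && allL octL fun c => Nat.beq c O ||
    !(allL Ms fun D => Nat.beq (popc 2 (Nat.land c D)) (popc 2 (Nat.land O D)))

theorem uniqO_sound {Ms : List ℕ} {O : ℕ} (h : uniqO Ms O = true) {σ : Perm GolayPt}
    (hσ : σ ∈ KM Ms) : σ • fs O = fs O := by
  simp only [uniqO, Bool.and_eq_true, Nat.beq_eq] at h
  obtain ⟨⟨h1, h2⟩, h3⟩ := h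
  have hO := inC_lt h1
  have h4 : mk (σ • fs O) ∈ octL := ((isC_fs h1).smul hσ.1).mem_octL
    (by rw [Finset.card_smul_finset, card_fs hO, h2])
  have h5 := allL_iff.1 h3 _ h4
  rw [Bool.or_eq_true, Nat.beq_eq] at h5
  rcases h5 with h5 | h5
  · rw [← fs_mk (σ • fs O), h5]
  · exfalso
    rw [Bool.not_eq_true', ← Bool.not_eq_true] at h5
    apply h5
    rw [allL_iff]
    intro D hD
    rw [Nat.beq_eq, land_eq, land_eq, ← card_fs (lt_of_le_of_lt Nat.and_le_left (mk_lt _)),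
      ← card_fs (lt_of_le_of_lt Nat.and_le_left hO), fs_land, fs_land, fs_mk]
    conv_lhs => rw [← hσ.2 D hD]
    rw [← Finset.smul_finset_inter, Finset.card_smul_finset]

/-- The bound given by a list of steps: a point to fix, or an octad which is fixed. -/
noncomputable def ub (st : List ℕ) (Ms : List ℕ) : ℕ :=
  List.rec (motive := fun _ => List ℕ → ℕ)
    (fun Ms => Bool.rec 0 1 (allLt 24 fun b => Nat.beq (cell Ms b) (Nat.pow 2 b)))
    (fun s _ ih Ms => Bool.rec (Nat.mul (popc 2 (cell Ms s)) (ih (Nat.pow 2 s :: Ms)))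
      (Bool.rec 0 (ih (s :: Ms)) (uniqO Ms s)) (Nat.ble 24 s)) st Ms

theorem bd_ub {st Ms : List ℕ} (h : ub st Ms ≠ 0) : Bd (KM Ms) (ub st Ms) := by
  induction st generalizing Ms with
  | nil =>
    have e : ub [] Ms = Bool.rec (motive := fun _ => ℕ) 0 1
      (allLt 24 fun b => Nat.beq (cell Ms b) (Nat.pow 2 b)) := rfl
    rw [e] at h ⊢
    cases hb : (allLt 24 fun b => Nat.beq (cell Ms b) (Nat.pow 2 b))
    · rw [hb] at h; exact absurd rfl h
    · refine Bd.bot.mono fun σ hσ => ?_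
      rw [Subgroup.mem_bot]
      ext1 p
      have h1 := mem_cell hσ p
      rw [Nat.eq_of_beq_eq_true (allLt_iff.1 hb _ (ix_lt p)), show Nat.pow 2 (ix p) = 2 ^ ix p from rfl,
        fs_two_pow (ix_lt p), pt_ix] at h1
      simpa using h1
  | cons s st ih =>
    have e : ub (s :: st) Ms = Bool.rec (motive := fun _ => ℕ)
      (popc 2 (cell Ms s) * ub st (2 ^ s :: Ms))
      (Bool.rec (motive := fun _ => ℕ) 0 (ub st (s :: Ms)) (uniqO Ms s)) (Nat.ble 24 s) := rfl
    rw [e] at h ⊢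
    cases hb : Nat.ble 24 s
    · rw [hb] at h
      have hs : s < 24 := by
        by_contra hc
        rw [Nat.ble_eq_true_of_le (by omega)] at hb
        exact absurd hb (by simp)
      have h1 := ih (Ms := 2 ^ s :: Ms) (right_ne_zero_of_mul h)
      show Bd _ (popc 2 (cell Ms s) * _)
      rw [← card_fs (cell_lt _ _)]
      refine bd_orbit (pt s) (BdS.finset _) (fun g hg => ?_) (h1.mono fun g hg => ?_)
      · have := mem_cell hg (pt s)
        rwa [ix_pt s hs] at this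
      · exact mem_KM_cons.2 ⟨hg.1, (smul_two_pow hs).2 hg.2⟩
    · rw [hb] at h
      cases hu : uniqO Ms s
      · rw [hu] at h; exact absurd rfl h
      · rw [hu] at h
        exact (ih (Ms := s :: Ms) h).mono fun g hg => mem_KM_cons.2 ⟨hg, uniqO_sound hu hg⟩

theorem bd_of_ub {st Ms : List ℕ} {n : ℕ} (h : Nat.beq (ub st Ms) (n + 1) = true) :
    Bd (KM Ms) (n + 1) := by
  have e := Nat.eq_of_beq_eq_true h
  exact e ▸ bd_ub (by omega)

/-! ### The model on the numbers below 24 -/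

/-- The action on indices. -/
noncomputable def φ0 : Perm GolayPt →* Perm ℕ := Perm.viaEmbeddingHom ⟨ix, fun _ _ => ix_inj⟩

theorem φ0_ix (σ : Perm GolayPt) (p : GolayPt) : φ0 σ (ix p) = ix (σ p) :=
  Perm.viaEmbedding_apply σ ⟨ix, fun _ _ => ix_inj⟩ p

theorem φ0_mem (σ : Perm GolayPt) : φ0 σ ∈ bddPerm 24 := fun i hi =>
  Perm.viaEmbedding_apply_of_notMem σ ⟨ix, fun _ _ => ix_inj⟩ i (by
    rintro ⟨p, rfl⟩
    exact absurd (ix_lt p) (not_lt.2 hi))

/-- Restriction of a permutation of the numbers to the points. -/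
def res (p : Perm ℕ) (hp : p ∈ bddPerm 24) : Perm GolayPt where
  toFun x := pt (p (ix x))
  invFun x := pt (p⁻¹ (ix x))
  left_inv x := by
    show pt (p⁻¹ (ix (pt (p (ix x))))) = x
    rw [ix_pt _ (bddPerm_lt hp (ix_lt x)), perm_inv_apply, pt_ix]
  right_inv x := by
    show pt (p (ix (pt (p⁻¹ (ix x))))) = x
    rw [ix_pt _ (bddPerm_lt ((bddPerm 24).inv_mem hp) (ix_lt x)), perm_apply_inv, pt_ix]

theorem φ0_res (p : Perm ℕ) (hp : p ∈ bddPerm 24) : φ0 (res p hp) = p := by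
  ext i
  by_cases hi : i < 24
  · have := φ0_ix (res p hp) (pt i)
    rw [ix_pt i hi] at this
    rw [this]
    show ix (pt (p (ix (pt i)))) = p i
    rw [ix_pt i hi, ix_pt _ (bddPerm_lt hp hi)]
  · rw [φ0_mem _ i (by omega), hp i (by omega)]

theorem inv_smul_fs {B : ℕ} {ns : List Net} (hv : validAll B ns = true) {σ : Perm GolayPt} {a : ℕ}
    (h : φ0 σ = lp ns a) (m : ℕ) : σ⁻¹ • fs m = fs (gat ns a m) := by
  ext p
  rw [mem_inv_smul, mem_fs, mem_fs, testBit_gat hv, ← h, φ0_ix]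

/-- The networks give elements of `KM Ms`. -/
noncomputable def netsOK (Ms : List ℕ) (ns : List Net) : Bool :=
  (validAll (2 ^ 5) ns && fixAbove 5 24 ns) && allLt ns.length fun j =>
    (allLt 12 fun t => inC (gat ns (Nat.mul 2 j) (nth 0 bas t))) &&
      allL Ms fun m => Nat.beq (gat ns (Nat.mul 2 j) m) m

theorem netsOK_sound {Ms : List ℕ} {ns : List Net} (h : netsOK Ms ns = true) (j : ℕ) :
    ∃ σ ∈ KM Ms, φ0 σ = netPerm ns j := by
  simp only [netsOK, Bool.and_eq_true] at h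
  obtain ⟨⟨hv, hf⟩, h⟩ := h
  by_cases hj : j < ns.length
  · have h1 := allLt_iff.1 h j hj
    rw [Bool.and_eq_true] at h1
    have e := φ0_res _ (fixAbove_sound hv hf j)
    have e' : φ0 (res _ (fixAbove_sound hv hf j)) = CGT.lp ns (Nat.mul 2 j) := by
      rw [e, show Nat.mul 2 j = 2 * j from rfl, CGT.lp, ext_two_mul]
    refine ⟨_, ⟨mem_M24_of_bas fun t ht => ?_, fun m hm => ?_⟩, e⟩
    · rw [inv_smul_fs hv e']
      exact isC_fs (allLt_iff.1 h1.1 t ht)
    · rw [eq_comm, ← inv_smul_eq_iff, inv_smul_fs hv e', Nat.eq_of_beq_eq_true (allL_iff.1 h1.2 m hm)]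
  · exact ⟨1, (KM Ms).one_mem, by rw [map_one, netPerm_of_le ns (by omega)]⟩

open Classical in
/-- The generators given by networks. -/
noncomputable def γK (K : Subgroup (Perm GolayPt)) (ns : List Net) (j : ℕ) : K :=
  if h : ∃ σ ∈ K, φ0 σ = netPerm ns j then ⟨h.choose, h.choose_spec.1⟩ else 1

/-- The model of a subgroup. -/
noncomputable def φK (K : Subgroup (Perm GolayPt)) : K →* Perm ℕ := φ0.comp K.subtype

theorem φK_ix {K : Subgroup (Perm GolayPt)} (σ : K) (p : GolayPt) :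
    φK K σ (ix p) = ix (σ.1 p) := φ0_ix _ _

theorem model_of {K : Subgroup (Perm GolayPt)} {Ms : List ℕ} (hK : K = KM Ms) {ns : List Net}
    (h : netsOK Ms ns = true) {d : ℕ} {ts : List Tab} (ht : tabsB 5 d ns ts = true) :
    Model (φK K) (γK K ns) 5 ns ts := by
  have hv : validAll (2 ^ 5) ns = true := by
    simp only [netsOK, Bool.and_eq_true] at h
    exact h.1.1
  refine ⟨hv, fun j => ?_, tabsB_sound hv ht⟩
  have h1 : ∃ σ ∈ K, φ0 σ = netPerm ns j := hK ▸ netsOK_sound h j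
  rw [γK, dif_pos h1]
  exact h1.choose_spec.2

theorem cert_of {K : Subgroup (Perm GolayPt)} {Ms : List ℕ} (hK : K = KM Ms) {ns : List Net}
    (h : netsOK Ms ns = true) {d : ℕ} {ts : List Tab} (ht : tabsB 5 d ns ts = true) {L : List ℕ}
    {ls : List Level} (hS : (allL ls fun l => wordsIn L l.S) = true)
    (hc : chainOK 5 ns ts ls [] = true) {m : ℕ} (hb : Bd (KM Ms) m)
    (e : Nat.ble m (chainCard ls) = true) : Cert (φK K) (γK K ns) 5 ns ts L ls :=
  have M := model_of hK h ht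
  cert_of_bound M (chainOK_sound' M hS hc) (hK ▸ hb) e

end Cfsg.Agent.Gol
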